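import Cfsg.Agent.Lib.Comp.Co2y.Base

set_option maxRecDepth 100000
set_option Elab.async false

namespace Cfsg.Lib.Comp.Co2y

universe u

noncomputable def MuaH1_0_R : List (List ℕ × ℕ) := [([1],2),
 ([5],1),
 ([1,5],1),
 ([7],1),
 ([1,7],1),
 ([5,7],2),
 ([8],1),
 ([7,8],1),
 ([1,8],2),
 ([5,8],2),
 ([1,2],0)]

noncomputable def MuaH1_0_n_1 : Net :=
 (Net.cons 1 (nat_lit 0x10)
 (Net.cons 1 (nat_lit 0x8)
 Net.nil))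

noncomputable def MuaH1_0_n_5 : Net :=
 (Net.cons 1 (nat_lit 0x12)
 Net.nil)

noncomputable def MuaH1_0_n_7 : Net :=
 (Net.cons 1 (nat_lit 0x1)
 (Net.cons 1 (nat_lit 0x10)
 Net.nil))

noncomputable def MuaH1_0_n_8 : Net :=
 (Net.cons 3 (nat_lit 0x6)
 (Net.cons 1 (nat_lit 0x8)
 (Net.cons 1 (nat_lit 0x12)
 (Net.cons 1 (nat_lit 0x8)
 (Net.cons 3 (nat_lit 0x6)
 Net.nil)))))

noncomputable def MuaH1_0_n : List Net := [Net.nil,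
 MuaH1_0_n_1,
 Net.rev MuaH1_0_n_1,
 Net.nil,
 Net.nil,
 MuaH1_0_n_5,
 Net.nil,
 MuaH1_0_n_7,
 MuaH1_0_n_8]

theorem MuaH1_0_n_ok : NetsOK 6 MuaH1_0_n := netsOK_of (by decide +kernel)

theorem MuaH1_0_n_rel : Rels (gp MuaH1_0_n) MuaH1_0_R := rels_of_relsB (k := 3) MuaH1_0_n_ok (by norm_num) (by decide +kernel)

theorem MuaH1_0_fin : finB 6 MuaH1_0_n [1,2,5,7,8] 6 (runH 6 MuaH1_0_n (fun x p => ptInv (nth Net.nil MuaH1_0_n x) p) iv MuaH1_0_R [] ([1,2,5,8].map fun x => [x]) 0 []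
  [1,5,9,13,4,12,16,20,24,28,36,40,0,8,16,32,40,4,12,24]
  (defsH 6 MuaH1_0_n (ones 60) [7,5,8,1,2] (Nat.shiftLeft 1 0) 0)) = true := by decide +kernel

theorem MuaH1_0_idx : Idx.{u} iv (MuaH1_0_R ++ []) ([1,2,5,8].map fun x => [x]) [1,2,5,7,8] 6 :=
  Reach.idx MuaH1_0_n_ok (reach_runH MuaH1_0_n_ok (fun x p _ => ptInv_gp MuaH1_0_n_ok x p) MuaH1_0_n_rel (reach_defsH MuaH1_0_n_ok _ _ _ _ _ _) _ _) MuaH1_0_fin (by norm_num)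

end Cfsg.Lib.Comp.Co2y
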