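import Cfsg.Agent.Lib.Comp.Co2y.Base

set_option maxRecDepth 100000
set_option Elab.async false

namespace Cfsg.Lib.Comp.Co2y

universe u

noncomputable def MuaH2_1_R : List (List ℕ × ℕ) := [([4],1),
 ([1],2),
 ([1,4],2),
 ([5],1),
 ([1,5],1),
 ([4,5],2),
 ([1,2],0)]

noncomputable def MuaH2_1_n_1 : Net :=
 (Net.cons 1 (nat_lit 0x8)
 (Net.cons 1 (nat_lit 0x4)
 Net.nil))

noncomputable def MuaH2_1_n_4 : Net :=
 (Net.cons 1 (nat_lit 0xa)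
 Net.nil)

noncomputable def MuaH2_1_n_5 : Net :=
 (Net.cons 1 (nat_lit 0x1)
 (Net.cons 1 (nat_lit 0x8)
 Net.nil))

noncomputable def MuaH2_1_n : List Net := [Net.nil,
 MuaH2_1_n_1,
 Net.rev MuaH2_1_n_1,
 Net.nil,
 MuaH2_1_n_4,
 MuaH2_1_n_5]

theorem MuaH2_1_n_ok : NetsOK 5 MuaH2_1_n := netsOK_of (by decide +kernel)

theorem MuaH2_1_n_rel : Rels (gp MuaH2_1_n) MuaH2_1_R := rels_of_relsB (k := 3) MuaH2_1_n_ok (by norm_num) (by decide +kernel)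

theorem MuaH2_1_fin : finB 5 MuaH2_1_n [1,2,4,5] 5 (runH 5 MuaH2_1_n (fun x p => ptInv (nth Net.nil MuaH2_1_n x) p) iv MuaH2_1_R [] ([1,2,4].map fun x => [x]) 0 []
  [1,5,9,0,12,16,20,24,4,8,16,24,0,12]
  (defsH 5 MuaH2_1_n (ones 50) [5,4,1,2] (Nat.shiftLeft 1 0) 0)) = true := by decide +kernel

theorem MuaH2_1_idx : Idx.{u} iv (MuaH2_1_R ++ []) ([1,2,4].map fun x => [x]) [1,2,4,5] 5 :=
  Reach.idx MuaH2_1_n_ok (reach_runH MuaH2_1_n_ok (fun x p _ => ptInv_gp MuaH2_1_n_ok x p) MuaH2_1_n_rel (reach_defsH MuaH2_1_n_ok _ _ _ _ _ _) _ _) MuaH2_1_fin (by norm_num)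

end Cfsg.Lib.Comp.Co2y
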