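import Cfsg.Agent.Lib.Comp.Co2y.Base

set_option maxRecDepth 100000
set_option Elab.async false

namespace Cfsg.Lib.Comp.Co2y

universe u

noncomputable def MuaH3_2_R : List (List ℕ × ℕ) := [([3],1),
 ([4],1),
 ([1],2),
 ([3,4],1),
 ([1,3],2),
 ([1,4],2),
 ([1,4,2,3],1),
 ([5],1),
 ([1,5],1),
 ([4,5],2),
 ([3,5],4),
 ([1,5,4,3],2),
 ([1,2],0)]

noncomputable def MuaH3_2_n_1 : Net :=
 (Net.cons 8 (nat_lit 0x4)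
 (Net.cons 4 (nat_lit 0xa00)
 (Net.cons 2 (nat_lit 0x22)
 (Net.cons 1 (nat_lit 0x544)
 (Net.cons 2 (nat_lit 0x3130)
 (Net.cons 4 (nat_lit 0x708)
 (Net.cons 8 (nat_lit 0x88)
 Net.nil)))))))

noncomputable def MuaH3_2_n_3 : Net :=
 (Net.cons 8 (nat_lit 0x20)
 (Net.cons 2 (nat_lit 0x20)
 (Net.cons 1 (nat_lit 0x4015)
 (Net.cons 2 (nat_lit 0x20)
 (Net.cons 4 (nat_lit 0x300)
 (Net.cons 8 (nat_lit 0x20)
 Net.nil))))))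

noncomputable def MuaH3_2_n_4 : Net :=
 (Net.cons 8 (nat_lit 0x3c)
 (Net.cons 4 (nat_lit 0x2)
 (Net.cons 2 (nat_lit 0x20)
 (Net.cons 1 (nat_lit 0x4010)
 (Net.cons 2 (nat_lit 0x22)
 (Net.cons 4 (nat_lit 0x306)
 (Net.cons 8 (nat_lit 0x3c)
 Net.nil)))))))

noncomputable def MuaH3_2_n_5 : Net :=
 (Net.cons 8 (nat_lit 0x6c)
 (Net.cons 4 (nat_lit 0x406)
 (Net.cons 2 (nat_lit 0x2)
 (Net.cons 1 (nat_lit 0x5414)
 (Net.cons 2 (nat_lit 0x3002)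
 (Net.cons 4 (nat_lit 0x40e)
 (Net.cons 8 (nat_lit 0x6c)
 Net.nil)))))))

noncomputable def MuaH3_2_n : List Net := [Net.nil,
 MuaH3_2_n_1,
 Net.rev MuaH3_2_n_1,
 MuaH3_2_n_3,
 MuaH3_2_n_4,
 MuaH3_2_n_5]

theorem MuaH3_2_n_ok : NetsOK 16 MuaH3_2_n := netsOK_of (by decide +kernel)

theorem MuaH3_2_n_rel : Rels (gp MuaH3_2_n) MuaH3_2_R := rels_of_relsB (k := 4) MuaH3_2_n_ok (by norm_num) (by decide +kernel)

theorem MuaH3_2_fin : finB 16 MuaH3_2_n [1,2,3,4,5] 16 (runH 16 MuaH3_2_n (fun x p => ptInv (nth Net.nil MuaH3_2_n x) p) iv MuaH3_2_R [] ([1,2,4,5].map fun x => [x]) 0 []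
  [1,5,9,13,0,4,12,28,36,40,48,8,16,24,32,44,48,0,4,12,28,36,40,44,48,12,16,32,48,8,16,20,24,36,40]
  (defsH 16 MuaH3_2_n (ones 160) [3,5,1,2,3,4,5,1,2] (Nat.shiftLeft 1 0) 0)) = true := by decide +kernel

theorem MuaH3_2_idx : Idx.{u} iv (MuaH3_2_R ++ []) ([1,2,4,5].map fun x => [x]) [1,2,3,4,5] 16 :=
  Reach.idx MuaH3_2_n_ok (reach_runH MuaH3_2_n_ok (fun x p _ => ptInv_gp MuaH3_2_n_ok x p) MuaH3_2_n_rel (reach_defsH MuaH3_2_n_ok _ _ _ _ _ _) _ _) MuaH3_2_fin (by norm_num)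

end Cfsg.Lib.Comp.Co2y
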