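import Cfsg.Agent.Lib.Comp.Co2y.Base

set_option maxRecDepth 100000
set_option Elab.async false

namespace Cfsg.Lib.Comp.Co2y

universe u

noncomputable def MuaH4_5_R : List (List ℕ × ℕ) := [([4],1),
 ([1],2),
 ([1,4],2),
 ([1,2],0)]

noncomputable def MuaH4_5_n_1 : Net :=
 (Net.cons 2 (nat_lit 0x2)
 (Net.cons 1 (nat_lit 0x4)
 Net.nil))

noncomputable def MuaH4_5_n_4 : Net :=
 (Net.cons 1 (nat_lit 0x5)
 Net.nil)

noncomputable def MuaH4_5_n : List Net := [Net.nil,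
 MuaH4_5_n_1,
 Net.rev MuaH4_5_n_1,
 Net.nil,
 MuaH4_5_n_4]

theorem MuaH4_5_n_ok : NetsOK 4 MuaH4_5_n := netsOK_of (by decide +kernel)

theorem MuaH4_5_n_rel : Rels (gp MuaH4_5_n) MuaH4_5_R := rels_of_relsB (k := 2) MuaH4_5_n_ok (by norm_num) (by decide +kernel)

theorem MuaH4_5_fin : finB 4 MuaH4_5_n [1,2,4] 4 (runH 4 MuaH4_5_n (fun x p => ptInv (nth Net.nil MuaH4_5_n x) p) iv MuaH4_5_R [] ([1,2].map fun x => [x]) 0 []
  [1,5,0,12,4,8,12,0]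
  (defsH 4 MuaH4_5_n (ones 40) [4,1,2] (Nat.shiftLeft 1 0) 0)) = true := by decide +kernel

theorem MuaH4_5_idx : Idx.{u} iv (MuaH4_5_R ++ []) ([1,2].map fun x => [x]) [1,2,4] 4 :=
  Reach.idx MuaH4_5_n_ok (reach_runH MuaH4_5_n_ok (fun x p _ => ptInv_gp MuaH4_5_n_ok x p) MuaH4_5_n_rel (reach_defsH MuaH4_5_n_ok _ _ _ _ _ _) _ _) MuaH4_5_fin (by norm_num)

end Cfsg.Lib.Comp.Co2y
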