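import Cfsg.Agent.Lib.Comp.Co2y.MuaH0_0
import Cfsg.Agent.Lib.Comp.Co2y.MuaH0_1
import Cfsg.Agent.Lib.Comp.Co2y.MuaH0_2
import Cfsg.Agent.Lib.Comp.Co2y.MuaH0_3
import Cfsg.Agent.Lib.Comp.Co2y.MuaH1_0
import Cfsg.Agent.Lib.Comp.Co2y.MuaH1_1
import Cfsg.Agent.Lib.Comp.Co2y.MuaH1_2
import Cfsg.Agent.Lib.Comp.Co2y.MuaH1_3
import Cfsg.Agent.Lib.Comp.Co2y.MuaH2_0
import Cfsg.Agent.Lib.Comp.Co2y.MuaH2_1
import Cfsg.Agent.Lib.Comp.Co2y.MuaH2_2
import Cfsg.Agent.Lib.Comp.Co2y.MuaH2_3
import Cfsg.Agent.Lib.Comp.Co2y.MuaH3_0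
import Cfsg.Agent.Lib.Comp.Co2y.MuaH3_1
import Cfsg.Agent.Lib.Comp.Co2y.MuaH3_2
import Cfsg.Agent.Lib.Comp.Co2y.MuaH3_3
import Cfsg.Agent.Lib.Comp.Co2y.MuaH3_4
import Cfsg.Agent.Lib.Comp.Co2y.MuaH3_5
import Cfsg.Agent.Lib.Comp.Co2y.MuaH4_0
import Cfsg.Agent.Lib.Comp.Co2y.MuaH4_1
import Cfsg.Agent.Lib.Comp.Co2y.MuaH4_2
import Cfsg.Agent.Lib.Comp.Co2y.MuaH4_3
import Cfsg.Agent.Lib.Comp.Co2y.MuaH4_4
import Cfsg.Agent.Lib.Comp.Co2y.MuaH4_5
import Cfsg.Agent.Lib.Comp.Co2y.MuaH4_6
import Cfsg.Agent.Lib.Comp.Co2y.Mua1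
import Cfsg.Agent.Lib.Comp.Co2y.Main
import Cfsg.Agent.Lib.Comp.Cover

set_option maxRecDepth 100000
set_option Elab.async false

namespace Cfsg.Lib.Comp.Co2y

universe u

theorem MuaH0_3_ord : Ord.{u} iv MuaH0_3_R [1,2] 3 :=
  (MuaH0_3_idx.ord_base).of_cons (cons_of_subset (by decide +kernel))

theorem MuaH0_2_ord : Ord.{u} iv MuaH0_2_R [1,2,6] 12 :=
  (MuaH0_2_idx.ord_step MuaH0_3_ord).of_cons (cons_of_subset (by decide +kernel))

theorem MuaH0_1_ord : Ord.{u} iv MuaH0_1_R [1,2,5,6] 60 :=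
  (MuaH0_1_idx.ord_step MuaH0_2_ord).of_cons (cons_of_subset (by decide +kernel))

theorem MuaH0_0_ord : Ord.{u} iv MuaH0_0_R [1,2,5,6,7] 360 :=
  (MuaH0_0_idx.ord_step MuaH0_1_ord).of_cons (cons_of_subset (by decide +kernel))

noncomputable def MuaH0_lb_n_1 : Net :=
 (Net.cons 1 (nat_lit 0x8)
 (Net.cons 1 (nat_lit 0x12)
 (Net.cons 1 (nat_lit 0x1)
 Net.nil)))

noncomputable def MuaH0_lb_n_5 : Net :=
 (Net.cons 1 (nat_lit 0x1)
 (Net.cons 1 (nat_lit 0x10)
 Net.nil))

noncomputable def MuaH0_lb_n_6 : Net :=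
 (Net.cons 3 (nat_lit 0x4)
 (Net.cons 1 (nat_lit 0x10)
 (Net.cons 3 (nat_lit 0x5)
 Net.nil)))

noncomputable def MuaH0_lb_n_7 : Net :=
 (Net.cons 1 (nat_lit 0x9)
 (Net.cons 1 (nat_lit 0x2)
 (Net.cons 1 (nat_lit 0x1)
 Net.nil)))

noncomputable def MuaH0_lb_n_64 : Net :=
 (Net.cons 1 (nat_lit 0x12)
 (Net.cons 1 (nat_lit 0x8)
 (Net.cons 3 (nat_lit 0x2)
 Net.nil)))

noncomputable def MuaH0_lb_n_66 : Net :=
 (Net.cons 1 (nat_lit 0x12)
 Net.nil)

noncomputable def MuaH0_lb_n_67 : Net :=
 (Net.cons 3 (nat_lit 0x4)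
 (Net.cons 1 (nat_lit 0x8)
 (Net.cons 1 (nat_lit 0x10)
 (Net.cons 1 (nat_lit 0x8)
 Net.nil))))

noncomputable def MuaH0_lb_n_69 : Net :=
 (Net.cons 3 (nat_lit 0x2)
 (Net.cons 1 (nat_lit 0x8)
 (Net.cons 1 (nat_lit 0x12)
 (Net.cons 1 (nat_lit 0x8)
 (Net.cons 3 (nat_lit 0x2)
 Net.nil)))))

noncomputable def MuaH0_lb_n_70 : Net :=
 (Net.cons 1 (nat_lit 0x10)
 (Net.cons 1 (nat_lit 0x8)
 Net.nil))

noncomputable def MuaH0_lb_n : List Net := (apd [Net.nil,
 MuaH0_lb_n_1,
 Net.rev MuaH0_lb_n_1,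
 Net.nil,
 Net.nil,
 MuaH0_lb_n_5,
 MuaH0_lb_n_6,
 MuaH0_lb_n_7,
 Net.nil,
 Net.nil,
 Net.nil,
 Net.nil,
 Net.nil,
 Net.nil,
 Net.nil,
 Net.nil,
 Net.nil,
 Net.nil,
 Net.nil,
 Net.nil,
 Net.nil,
 Net.nil,
 Net.nil,
 Net.nil,
 Net.nil,
 Net.nil,
 Net.nil,
 Net.nil,
 Net.nil,
 Net.nil,
 Net.nil,
 Net.nil,
 Net.nil,
 Net.nil,
 Net.nil,
 Net.nil,
 Net.nil,
 Net.nil,
 Net.nil,
 Net.nil]
 [Net.nil,
 Net.nil,
 Net.nil,
 Net.nil,
 Net.nil,
 Net.nil,
 Net.nil,
 Net.nil,
 Net.nil,
 Net.nil,
 Net.nil,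
 Net.nil,
 Net.nil,
 Net.nil,
 Net.nil,
 Net.nil,
 Net.nil,
 Net.nil,
 Net.nil,
 Net.nil,
 Net.nil,
 Net.nil,
 Net.nil,
 Net.nil,
 MuaH0_lb_n_64,
 Net.rev MuaH0_lb_n_64,
 MuaH0_lb_n_66,
 MuaH0_lb_n_67,
 Net.rev MuaH0_lb_n_67,
 MuaH0_lb_n_69,
 MuaH0_lb_n_70,
 Net.rev MuaH0_lb_n_70])

theorem MuaH0_lb_n_ok : NetsOK 6 MuaH0_lb_n := netsOK_of (by decide +kernel)

theorem MuaH0_lb : 360 ≤ Nat.card (cl (gp nets) [1,2,5,6,7]) :=
  lb_of_itwB (k := 3) (n := 6) nets_ok MuaH0_lb_n_ok (by norm_num) (by norm_num) (tbA_pt nets_ok) (tbA_pt MuaH0_lb_n_ok) (φ := look2 (nat_lit 0x8ca008c5006c700766007a40066d) 20 64) (by decide +kernel) (by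
    rw [← cl_eq_of_slpB (k := 3) (D := [(64,[2,6,5,2,6]),
 (65,[6,1,5,6,1]),
 (66,[1,7,2]),
 (67,[66,65]),
 (68,[64,66]),
 (69,[65,66,64]),
 (70,[68,69,68]),
 (71,[67,69,67])]) MuaH0_lb_n_ok (by norm_num) (by decide +kernel)]
    exact lb_of_chainB MuaH0_lb_n_ok (C := [([64,65,66,67,68,69,70,71],[1,6,1],0,0,6),
 ([67,68,69,70,71],[64,64,66],1,1,5),
 ([70,71],[67,69],2,2,4),
 ([],[70,70],3,3,3)]) (by decide +kernel))

theorem MuaH1_3_ord : Ord.{u} iv MuaH1_3_R [1,2] 3 :=
  (MuaH1_3_idx.ord_base).of_cons (cons_of_subset (by decide +kernel))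

theorem MuaH1_2_ord : Ord.{u} iv MuaH1_2_R [1,2,8] 12 :=
  (MuaH1_2_idx.ord_step MuaH1_3_ord).of_cons (cons_of_subset (by decide +kernel))

theorem MuaH1_1_ord : Ord.{u} iv MuaH1_1_R [1,2,5,8] 60 :=
  (MuaH1_1_idx.ord_step MuaH1_2_ord).of_cons (cons_of_subset (by decide +kernel))

theorem MuaH1_0_ord : Ord.{u} iv MuaH1_0_R [1,2,5,7,8] 360 :=
  (MuaH1_0_idx.ord_step MuaH1_1_ord).of_cons (cons_of_subset (by decide +kernel))

noncomputable def MuaH1_lb_n_1 : Net :=
 (Net.cons 1 (nat_lit 0x8)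
 (Net.cons 1 (nat_lit 0x12)
 (Net.cons 1 (nat_lit 0x1)
 Net.nil)))

noncomputable def MuaH1_lb_n_5 : Net :=
 (Net.cons 1 (nat_lit 0x8)
 (Net.cons 1 (nat_lit 0x12)
 (Net.cons 1 (nat_lit 0x8)
 Net.nil)))

noncomputable def MuaH1_lb_n_7 : Net :=
 (Net.cons 1 (nat_lit 0x9)
 (Net.cons 1 (nat_lit 0x2)
 (Net.cons 1 (nat_lit 0x1)
 Net.nil)))

noncomputable def MuaH1_lb_n_8 : Net :=
 (Net.cons 3 (nat_lit 0x4)
 (Net.cons 1 (nat_lit 0x10)
 (Net.cons 3 (nat_lit 0x5)
 Net.nil)))

noncomputable def MuaH1_lb_n_64 : Net :=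
 (Net.cons 1 (nat_lit 0x12)
 (Net.cons 3 (nat_lit 0x6)
 Net.nil))

noncomputable def MuaH1_lb_n_65 : Net :=
 (Net.cons 1 (nat_lit 0x12)
 Net.nil)

noncomputable def MuaH1_lb_n_66 : Net :=
 (Net.cons 1 (nat_lit 0x10)
 (Net.cons 1 (nat_lit 0x8)
 Net.nil))

noncomputable def MuaH1_lb_n_68 : Net :=
 (Net.cons 1 (nat_lit 0x8)
 (Net.cons 3 (nat_lit 0x4)
 Net.nil))

noncomputable def MuaH1_lb_n : List Net := (apd [Net.nil,
 MuaH1_lb_n_1,
 Net.rev MuaH1_lb_n_1,
 Net.nil,
 Net.nil,
 MuaH1_lb_n_5,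
 Net.nil,
 MuaH1_lb_n_7,
 MuaH1_lb_n_8,
 Net.nil,
 Net.nil,
 Net.nil,
 Net.nil,
 Net.nil,
 Net.nil,
 Net.nil,
 Net.nil,
 Net.nil,
 Net.nil,
 Net.nil,
 Net.nil,
 Net.nil,
 Net.nil,
 Net.nil,
 Net.nil,
 Net.nil,
 Net.nil,
 Net.nil,
 Net.nil,
 Net.nil,
 Net.nil,
 Net.nil,
 Net.nil,
 Net.nil,
 Net.nil,
 Net.nil,
 Net.nil,
 Net.nil,
 Net.nil,
 Net.nil]
 [Net.nil,
 Net.nil,
 Net.nil,
 Net.nil,
 Net.nil,
 Net.nil,
 Net.nil,
 Net.nil,
 Net.nil,
 Net.nil,
 Net.nil,
 Net.nil,
 Net.nil,
 Net.nil,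
 Net.nil,
 Net.nil,
 Net.nil,
 Net.nil,
 Net.nil,
 Net.nil,
 Net.nil,
 Net.nil,
 Net.nil,
 Net.nil,
 MuaH1_lb_n_64,
 MuaH1_lb_n_65,
 MuaH1_lb_n_66,
 Net.rev MuaH1_lb_n_66,
 MuaH1_lb_n_68])

theorem MuaH1_lb_n_ok : NetsOK 6 MuaH1_lb_n := netsOK_of (by decide +kernel)

theorem MuaH1_lb : 360 ≤ Nat.card (cl (gp nets) [1,2,5,7,8]) :=
  lb_of_itwB (k := 3) (n := 6) nets_ok MuaH1_lb_n_ok (by norm_num) (by norm_num) (tbA_pt nets_ok) (tbA_pt MuaH1_lb_n_ok) (φ := look2 (nat_lit 0x748006be006c20063f0063e005ee) 20 64) (by decide +kernel) (by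
    rw [← cl_eq_of_slpB (k := 3) (D := [(64,[1,8,2]),
 (65,[2,7]),
 (66,[5,65]),
 (67,[65,5]),
 (68,[64,5,64,5,64])]) MuaH1_lb_n_ok (by norm_num) (by decide +kernel)]
    exact lb_of_chainB MuaH1_lb_n_ok (C := [([5,64,65,66,67,68],[1,8,1],0,0,6),
 ([66,67,68],[5,64,5],1,1,5),
 ([66,67],[68,66,66],2,2,4),
 ([],[66,66],3,3,3)]) (by decide +kernel))

theorem MuaH2_3_ord : Ord.{u} iv MuaH2_3_R [1,2] 3 :=
  (MuaH2_3_idx.ord_base).of_cons (cons_of_subset (by decide +kernel))

theorem MuaH2_2_ord : Ord.{u} iv MuaH2_2_R [1,2,4] 12 :=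
  (MuaH2_2_idx.ord_step MuaH2_3_ord).of_cons (cons_of_subset (by decide +kernel))

theorem MuaH2_1_ord : Ord.{u} iv MuaH2_1_R [1,2,4,5] 60 :=
  (MuaH2_1_idx.ord_step MuaH2_2_ord).of_cons (cons_of_subset (by decide +kernel))

theorem MuaH2_0_ord : Ord.{u} iv MuaH2_0_R [1,2,4,5,7] 360 :=
  (MuaH2_0_idx.ord_step MuaH2_1_ord).of_cons (cons_of_subset (by decide +kernel))

noncomputable def MuaH2_lb_n_1 : Net :=
 (Net.cons 1 (nat_lit 0x12)
 (Net.cons 1 (nat_lit 0x9)
 Net.nil))

noncomputable def MuaH2_lb_n_4 : Net :=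
 (Net.cons 3 (nat_lit 0x3)
 Net.nil)

noncomputable def MuaH2_lb_n_5 : Net :=
 (Net.cons 1 (nat_lit 0x8)
 (Net.cons 1 (nat_lit 0x12)
 (Net.cons 1 (nat_lit 0x8)
 Net.nil)))

noncomputable def MuaH2_lb_n_7 : Net :=
 (Net.cons 1 (nat_lit 0x9)
 Net.nil)

noncomputable def MuaH2_lb_n_64 : Net :=
 (Net.cons 3 (nat_lit 0x4)
 (Net.cons 1 (nat_lit 0x8)
 (Net.cons 1 (nat_lit 0x2)
 (Net.cons 3 (nat_lit 0x4)
 Net.nil))))

noncomputable def MuaH2_lb_n_65 : Net :=
 (Net.cons 1 (nat_lit 0x12)
 Net.nil)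

noncomputable def MuaH2_lb_n_66 : Net :=
 (Net.cons 1 (nat_lit 0x8)
 (Net.cons 1 (nat_lit 0x10)
 Net.nil))

noncomputable def MuaH2_lb_n_68 : Net :=
 (Net.cons 3 (nat_lit 0x6)
 (Net.cons 1 (nat_lit 0x8)
 (Net.cons 1 (nat_lit 0x12)
 (Net.cons 1 (nat_lit 0x8)
 (Net.cons 3 (nat_lit 0x6)
 Net.nil)))))

noncomputable def MuaH2_lb_n : List Net := (apd [Net.nil,
 MuaH2_lb_n_1,
 Net.rev MuaH2_lb_n_1,
 Net.nil,
 MuaH2_lb_n_4,
 MuaH2_lb_n_5,
 Net.nil,
 MuaH2_lb_n_7,
 Net.nil,
 Net.nil,
 Net.nil,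
 Net.nil,
 Net.nil,
 Net.nil,
 Net.nil,
 Net.nil,
 Net.nil,
 Net.nil,
 Net.nil,
 Net.nil,
 Net.nil,
 Net.nil,
 Net.nil,
 Net.nil,
 Net.nil,
 Net.nil,
 Net.nil,
 Net.nil,
 Net.nil,
 Net.nil,
 Net.nil,
 Net.nil,
 Net.nil,
 Net.nil,
 Net.nil,
 Net.nil,
 Net.nil,
 Net.nil,
 Net.nil,
 Net.nil]
 [Net.nil,
 Net.nil,
 Net.nil,
 Net.nil,
 Net.nil,
 Net.nil,
 Net.nil,
 Net.nil,
 Net.nil,
 Net.nil,
 Net.nil,
 Net.nil,
 Net.nil,
 Net.nil,
 Net.nil,
 Net.nil,
 Net.nil,
 Net.nil,
 Net.nil,
 Net.nil,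
 Net.nil,
 Net.nil,
 Net.nil,
 Net.nil,
 MuaH2_lb_n_64,
 MuaH2_lb_n_65,
 MuaH2_lb_n_66,
 Net.rev MuaH2_lb_n_66,
 MuaH2_lb_n_68])

theorem MuaH2_lb_n_ok : NetsOK 6 MuaH2_lb_n := netsOK_of (by decide +kernel)

theorem MuaH2_lb : 360 ≤ Nat.card (cl (gp nets) [1,2,4,5,7]) :=
  lb_of_itwB (k := 3) (n := 6) nets_ok MuaH2_lb_n_ok (by norm_num) (by norm_num) (tbA_pt nets_ok) (tbA_pt MuaH2_lb_n_ok) (φ := look2 (nat_lit 0x8ca006c7008c500748006c2006be) 20 64) (by decide +kernel) (by
    rw [← cl_eq_of_slpB (k := 3) (D := [(64,[4,2,5,4]),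
 (65,[1,7]),
 (66,[65,5]),
 (67,[5,65]),
 (68,[5,64,5])]) MuaH2_lb_n_ok (by norm_num) (by decide +kernel)]
    exact lb_of_chainB MuaH2_lb_n_ok (C := [([5,64,65,66,67,68],[1,1,4,1],0,0,6),
 ([66,67,68],[5,64,68],1,1,5),
 ([66,67],[68,66,66],2,2,4),
 ([],[66,66],3,3,3)]) (by decide +kernel))

theorem MuaH3_5_ord : Ord.{u} iv MuaH3_5_R [1,2] 3 :=
  (MuaH3_5_idx.ord_base).of_cons (cons_of_subset (by decide +kernel))

theorem MuaH3_4_ord : Ord.{u} iv MuaH3_4_R [1,2,4] 12 :=
  (MuaH3_4_idx.ord_step MuaH3_5_ord).of_cons (cons_of_subset (by decide +kernel))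

theorem MuaH3_3_ord : Ord.{u} iv MuaH3_3_R [1,2,4,5] 60 :=
  (MuaH3_3_idx.ord_step MuaH3_4_ord).of_cons (cons_of_subset (by decide +kernel))

theorem MuaH3_2_ord : Ord.{u} iv MuaH3_2_R [1,2,3,4,5] 960 :=
  (MuaH3_2_idx.ord_step MuaH3_3_ord).of_cons (cons_of_subset (by decide +kernel))

theorem MuaH3_1_ord : Ord.{u} iv MuaH3_1_R [1,2,3,4,5,6] 20160 :=
  (MuaH3_1_idx.ord_step MuaH3_2_ord).of_cons (cons_of_subset (by decide +kernel))

theorem MuaH3_0_ord : Ord.{u} iv MuaH3_0_R [1,2,3,4,5,6,7] 3265920 :=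
  (MuaH3_0_idx.ord_step MuaH3_1_ord).of_cons (cons_of_subset (by decide +kernel))

noncomputable def MuaH3_lb_n_1 : Net :=
 (Net.cons 64 (nat_lit 0x3785c9c90f1f0cd0)
 (Net.cons 32 (nat_lit 0xcf073d7000000000b072fbc0)
 (Net.cons 16 (nat_lit 0x866600004536000017ce0000f016)
 (Net.cons 8 (nat_lit 0xc000880002005c00a200b000c000a0)
 (Net.cons 4 (nat_lit 0x80e0e000400020a0006080400000400)
 (Net.cons 2 (nat_lit 0x220000020002000002000200202020)
 (Net.cons 1 (nat_lit 0x40410401045044014114501400414011)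
 (Net.cons 2 (nat_lit 0x2201201023110021022002003330130)
 (Net.cons 4 (nat_lit 0x4080c0803030203060e0807030a0a01)
 (Net.cons 8 (nat_lit 0x8000820013004c005400c800c00061)
 (Net.cons 16 (nat_lit 0x85e500005717000047c400007f85)
 (Net.cons 32 (nat_lit 0xfa077f9300000000b80aff20)
 (Net.cons 64 (nat_lit 0x3785436f372fcab0)
 Net.nil)))))))))))))

noncomputable def MuaH3_lb_n_3 : Net :=
 (Net.cons 64 (nat_lit 0x3182ae2e52f05400)
 (Net.cons 32 (nat_lit 0xb18c7d000000000065769558)
 (Net.cons 16 (nat_lit 0xa0c0000025a00000da4200004278)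
 (Net.cons 8 (nat_lit 0x4000540000004a00a000a800180000)
 (Net.cons 4 (nat_lit 0x200000008000e040408080800)
 (Net.cons 2 (nat_lit 0x20002002000020020200020200000)
 (Net.cons 1 (nat_lit 0x40014001115010015400514440000)
 (Net.cons 2 (nat_lit 0x30020013112000121120233020201300)
 (Net.cons 4 (nat_lit 0x8090d0500000a020e040408090807)
 (Net.cons 8 (nat_lit 0x4000dc0020004a00a000a8009c0008)
 (Net.cons 16 (nat_lit 0xa0c000002de00000da4200004278)
 (Net.cons 32 (nat_lit 0xb18c7d000000000065769558)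
 (Net.cons 64 (nat_lit 0x3182ae2e52f05400)
 Net.nil)))))))))))))

noncomputable def MuaH3_lb_n_4 : Net :=
 (Net.cons 64 (nat_lit 0x208c6110aba7e0c0)
 (Net.cons 32 (nat_lit 0x438c45840000000087e20800)
 (Net.cons 16 (nat_lit 0xa240000088e00000070000009098)
 (Net.cons 8 (nat_lit 0x2000c400b80028000200ac00fc0080)
 (Net.cons 4 (nat_lit 0x80800000a00000800080a0c00000400)
 (Net.cons 2 (nat_lit 0x20200000000000200000000200)
 (Net.cons 1 (nat_lit 0x1040104000054100100440000400)
 (Net.cons 2 (nat_lit 0x2200021220011230012233002310211)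
 (Net.cons 4 (nat_lit 0x80808000a030f08000a080c0105050d)
 (Net.cons 8 (nat_lit 0x6000c600bc0028000200ac00fc00a0)
 (Net.cons 16 (nat_lit 0xa344000088e0000005a100009898)
 (Net.cons 32 (nat_lit 0x438c45840000000087e20800)
 (Net.cons 64 (nat_lit 0x208c6110aba7e0c0)
 Net.nil)))))))))))))

noncomputable def MuaH3_lb_n_5 : Net :=
 (Net.cons 64 (nat_lit 0xffff80000)
 (Net.cons 32 (nat_lit 0x64e0fc000000000091bcf600)
 (Net.cons 16 (nat_lit 0xb4000000030000000ee00000a200)
 (Net.cons 8 (nat_lit 0x30000000800000000000f000ec0000)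
 (Net.cons 4 (nat_lit 0xc0000000008000c06080a00080c0c00)
 (Net.cons 2 (nat_lit 0x20002000000000000200020000000000)
 (Net.cons 1 (nat_lit 0x44004544000000005151015555555540)
 (Net.cons 2 (nat_lit 0x20302000020203030230220021302101)
 (Net.cons 4 (nat_lit 0xc00000001090c0006080e0f07040b00)
 (Net.cons 8 (nat_lit 0x300000009100ff000000f0007c0000)
 (Net.cons 16 (nat_lit 0xb4000000030000000ee000007a00)
 (Net.cons 32 (nat_lit 0x64e0fc000000000091bcf600)
 (Net.cons 64 (nat_lit 0xffff80000)
 Net.nil)))))))))))))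

noncomputable def MuaH3_lb_n_6 : Net :=
 (Net.cons 64 (nat_lit 0xff3ed8831004000)
 (Net.cons 32 (nat_lit 0xbd566a1000000000cc01a2c0)
 (Net.cons 16 (nat_lit 0x868000003f880000014a0000d8f0)
 (Net.cons 8 (nat_lit 0x3400c800220040004800c400040000)
 (Net.cons 4 (nat_lit 0x8040000040e0800000404000400)
 (Net.cons 2 (nat_lit 0x200000002202220200022020200000)
 (Net.cons 1 (nat_lit 0x4410400001141415101041440400000)
 (Net.cons 2 (nat_lit 0x111203022200130200222021201000)
 (Net.cons 4 (nat_lit 0x203040c01020403080400040400040f)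
 (Net.cons 8 (nat_lit 0x340042002200cf004800c4008c0000)
 (Net.cons 16 (nat_lit 0x935200003fe800000d4a0000daf0)
 (Net.cons 32 (nat_lit 0xbd566a1000000000cc01a2c0)
 (Net.cons 64 (nat_lit 0xff3ed8831004000)
 Net.nil)))))))))))))

noncomputable def MuaH3_lb_n_7 : Net :=
 (Net.cons 64 (nat_lit 0x34ccadd1a24b83c0)
 (Net.cons 32 (nat_lit 0x6396720000000000d42e02c4)
 (Net.cons 16 (nat_lit 0x91600000220800004da0000014b0)
 (Net.cons 8 (nat_lit 0x8000e80010000000d6006800d00004)
 (Net.cons 4 (nat_lit 0x8080c02080000080002040000040000)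
 (Net.cons 2 (nat_lit 0x20000220002000002000000000000200)
 (Net.cons 1 (nat_lit 0x44504141041400041501000000100400)
 (Net.cons 2 (nat_lit 0x20320220002031102000101222012200)
 (Net.cons 4 (nat_lit 0x9080c020a000008000f0a050e050003)
 (Net.cons 8 (nat_lit 0xe000f80010005000d6003c00d00044)
 (Net.cons 16 (nat_lit 0x9360000022290000dda9000015b0)
 (Net.cons 32 (nat_lit 0x63d6720000000000942f12e4)
 (Net.cons 64 (nat_lit 0x34ccadd1a24b83c0)
 Net.nil)))))))))))))

noncomputable def MuaH3_lb_n_64 : Net :=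
 (Net.cons 64 (nat_lit 0x203caad1ddd2dede)
 (Net.cons 32 (nat_lit 0xa43696d800000000df1511e0)
 (Net.cons 16 (nat_lit 0x8488000091b0000022a2000002cc)
 (Net.cons 8 (nat_lit 0x2000ac0030005e003400c000560028)
 (Net.cons 4 (nat_lit 0x800080c04000a0a0c000a0e0808080c)
 (Net.cons 2 (nat_lit 0x200000020002202020200000020200)
 (Net.cons 1 (nat_lit 0x4105105110414444511101400445414)
 (Net.cons 2 (nat_lit 0x21103232022210221012002130220)
 (Net.cons 4 (nat_lit 0x8020a0f0508090d03030b070e030106)
 (Net.cons 8 (nat_lit 0x8400d70010002500f4000000f200c2)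
 (Net.cons 16 (nat_lit 0x80ac0000c3f4000030620000fde4)
 (Net.cons 32 (nat_lit 0xa4160724000000009bd7ec08)
 (Net.cons 64 (nat_lit 0x203c15bacb5f6042)
 Net.nil)))))))))))))

noncomputable def MuaH3_lb_n_66 : Net :=
 (Net.cons 64 (nat_lit 0x890a67ea4c20ca30)
 (Net.cons 32 (nat_lit 0xd86e8248000000003f5cca48)
 (Net.cons 16 (nat_lit 0xc7e400000244000016300000034a)
 (Net.cons 8 (nat_lit 0xac001400500070009400300020009c)
 (Net.cons 4 (nat_lit 0xa0000000008000c02080602040a0002)
 (Net.cons 2 (nat_lit 0x20000020000202020020200220000200)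
 (Net.cons 1 (nat_lit 0x40004441550104014510414111415410)
 (Net.cons 2 (nat_lit 0x1002130320302031231023210222202)
 (Net.cons 4 (nat_lit 0xd0808020e000b040809090c06010206)
 (Net.cons 8 (nat_lit 0x60004d00d7004800e5000e00f60038)
 (Net.cons 16 (nat_lit 0xdee000008f5500007ad90000c5ca)
 (Net.cons 32 (nat_lit 0xd96e0edc000000001bdc43e0)
 (Net.cons 64 (nat_lit 0x890ae3d02a1cb7b2)
 Net.nil)))))))))))))

noncomputable def MuaH3_lb_n_68 : Net :=
 (Net.cons 64 (nat_lit 0xfff0000000000000)
 (Net.cons 32 (nat_lit 0x7ffc00000000000000000000)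
 (Net.cons 16 (nat_lit 0x9d3200002b100000c0f000005008)
 (Net.cons 8 (nat_lit 0x5c000800c8005600c4002200220080)
 (Net.cons 4 (nat_lit 0x4080c0a00040c0400080400080e000c)
 (Net.cons 2 (nat_lit 0x2002020020000220002000222000000)
 (Net.cons 1 (nat_lit 0x44044011540515410011010141045450)
 (Net.cons 2 (nat_lit 0x3123330332002010030120131121310)
 (Net.cons 4 (nat_lit 0x7040a0e07040809040b05020b090000)
 (Net.cons 8 (nat_lit 0xb000e5009b002e0004002100df0018)
 (Net.cons 16 (nat_lit 0x870e0000ae320000c0f00000f800)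
 (Net.cons 32 (nat_lit 0xfffc00200000000000000000)
 (Net.cons 64 (nat_lit 0xfff0000000000000)
 Net.nil)))))))))))))

noncomputable def MuaH3_lb_n_70 : Net :=
 (Net.cons 64 (nat_lit 0xfff0000000000000)
 (Net.cons 32 (nat_lit 0xfffc00000000000000000000)
 (Net.cons 16 (nat_lit 0x81200000f0e0000015480000fbe0)
 (Net.cons 8 (nat_lit 0x660002003200300014006a00e00024)
 (Net.cons 4 (nat_lit 0x402080c0c000000000e0000020c0000)
 (Net.cons 2 (nat_lit 0x20222200002022220000000020200000)
 (Net.cons 1 (nat_lit 0x10141415111044440050005514144510)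
 (Net.cons 2 (nat_lit 0x10023131301012010131021133313330)
 (Net.cons 4 (nat_lit 0x50e02070e030107000f0a00020e0200)
 (Net.cons 8 (nat_lit 0x4600da00e200bb00140060002f00c0)
 (Net.cons 16 (nat_lit 0xe4040000a3700000154800005938)
 (Net.cons 32 (nat_lit 0xfffc00000000000000000000)
 (Net.cons 64 (nat_lit 0xfff0000000000000)
 Net.nil)))))))))))))

noncomputable def MuaH3_lb_n_72 : Net :=
 (Net.cons 16 (nat_lit 0x21800000f9f000000000)
 (Net.cons 8 (nat_lit 0xc40092005e00c400e200f00000)
 (Net.cons 4 (nat_lit 0x604080c04020800080000000000)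
 (Net.cons 2 (nat_lit 0x20200020200020220200202020)
 (Net.cons 1 (nat_lit 0x5114101511455145111114411440)
 (Net.cons 2 (nat_lit 0x2122322032110223033323213200)
 (Net.cons 4 (nat_lit 0xb020e04090b060a0c020f000000)
 (Net.cons 8 (nat_lit 0x7200cb00db00a0002200000000)
 (Net.cons 16 (nat_lit 0x22800000def000000000)
 Net.nil)))))))))

noncomputable def MuaH3_lb_n_74 : Net :=
 (Net.cons 8 (nat_lit 0xc0000000c000f0000000000000)
 (Net.cons 4 (nat_lit 0xc00000c00000c00040000000000)
 (Net.cons 2 (nat_lit 0x22000000000000000000)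
 (Net.cons 1 (nat_lit 0x5000005544515550015555050050)
 (Net.cons 2 (nat_lit 0x303323022000333103033303300)
 (Net.cons 4 (nat_lit 0xc00000c0f000c00040000000000)
 (Net.cons 8 (nat_lit 0xc0000000c000f0000000000000)
 Net.nil)))))))

noncomputable def MuaH3_lb_n : List Net := (apd [Net.nil,
 MuaH3_lb_n_1,
 Net.rev MuaH3_lb_n_1,
 MuaH3_lb_n_3,
 MuaH3_lb_n_4,
 MuaH3_lb_n_5,
 MuaH3_lb_n_6,
 MuaH3_lb_n_7,
 Net.nil,
 Net.nil,
 Net.nil,
 Net.nil,
 Net.nil,
 Net.nil,
 Net.nil,
 Net.nil,
 Net.nil,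
 Net.nil,
 Net.nil,
 Net.nil,
 Net.nil,
 Net.nil,
 Net.nil,
 Net.nil,
 Net.nil,
 Net.nil,
 Net.nil,
 Net.nil,
 Net.nil,
 Net.nil,
 Net.nil,
 Net.nil,
 Net.nil,
 Net.nil,
 Net.nil,
 Net.nil,
 Net.nil,
 Net.nil,
 Net.nil,
 Net.nil]
 [Net.nil,
 Net.nil,
 Net.nil,
 Net.nil,
 Net.nil,
 Net.nil,
 Net.nil,
 Net.nil,
 Net.nil,
 Net.nil,
 Net.nil,
 Net.nil,
 Net.nil,
 Net.nil,
 Net.nil,
 Net.nil,
 Net.nil,
 Net.nil,
 Net.nil,
 Net.nil,
 Net.nil,
 Net.nil,
 Net.nil,
 Net.nil,
 MuaH3_lb_n_64,
 Net.rev MuaH3_lb_n_64,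
 MuaH3_lb_n_66,
 Net.rev MuaH3_lb_n_66,
 MuaH3_lb_n_68,
 Net.rev MuaH3_lb_n_68,
 MuaH3_lb_n_70,
 Net.rev MuaH3_lb_n_70,
 MuaH3_lb_n_72,
 Net.rev MuaH3_lb_n_72,
 MuaH3_lb_n_74])

theorem MuaH3_lb_n_ok : NetsOK 128 MuaH3_lb_n := netsOK_of (by decide +kernel)

theorem MuaH3_lb : 3265920 ≤ Nat.card (cl (gp nets) [1,2,3,4,5,6,7]) :=
  lb_of_itwB (k := 7) (n := 112) nets_ok MuaH3_lb_n_ok (by norm_num) (by norm_num) (tbA_pt nets_ok) (tbA_pt MuaH3_lb_n_ok) (φ := look2 (nat_lit 0x364002df0052900464000bc001e5001340035a001020036900426001e20046600135003950010d005270049400417000fe00244002f2002ea001ff002160014000207003e50013d00071004c6003fc003f80003e0016d00053000500014f0051e003530017500043003ac00171003b100056003540022f000660003c001f2003f200040001690039d001ef00484003ab00156003a700270003d7004510021c0028a000db0004d00168002230045b000e30039b0015c0044e003fb00228000d500457002c700274003a1002b90022d001d1005490016e00177000e0002170017a003a4002310054c004eb003b900181001cf00221000dd001ea004e5003ee001740039e001cb0016c0005200229001c9002af003b700015)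 20 64) (by decide +kernel) (by
    rw [← cl_eq_of_slpB (k := 7) (D := [(64,[1,6,5,4,7,5,6,2,6,5,7,4,5,6,3,2]),
 (65,[1,3,6,5,4,7,5,6,1,6,5,7,4,5,6,2]),
 (66,[6,5,7,5,4]),
 (67,[4,5,7,5,6]),
 (68,[66,65,67,65,67,67,64,66]),
 (69,[67,65,66,66,64,66,64,67]),
 (70,[65,67,65,67,65,67,67,65]),
 (71,[64,66,66,64,66,64,66,64]),
 (72,[71,68,71,69,71]),
 (73,[70,68,70,69,70]),
 (74,[70,69,71,71,68,71])]) MuaH3_lb_n_ok (by norm_num) (by decide +kernel)]
    exact lb_of_chainB MuaH3_lb_n_ok (C := [([64,65,66,67,68,69,70,71,72,73,74],[1,3,4,64,66,68,1,6,64,1],0,0,112),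
 ([68,69,70,71,72,73,74],[64,66,64,68,66,64,68,70,68],1,1,81),
 ([72,73,74],[68,70,68,70,68,70,68],2,2,30),
 ([],[72,74,72,74,72],52,52,12)]) (by decide +kernel))

theorem MuaH4_6_ord : Ord.{u} iv MuaH4_6_R [1,2] 3 :=
  (MuaH4_6_idx.ord_base).of_cons (cons_of_subset (by decide +kernel))

theorem MuaH4_5_ord : Ord.{u} iv MuaH4_5_R [1,2,4] 12 :=
  (MuaH4_5_idx.ord_step MuaH4_6_ord).of_cons (cons_of_subset (by decide +kernel))

theorem MuaH4_4_ord : Ord.{u} iv MuaH4_4_R [1,2,4,5] 60 :=
  (MuaH4_4_idx.ord_step MuaH4_5_ord).of_cons (cons_of_subset (by decide +kernel))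

theorem MuaH4_3_ord : Ord.{u} iv MuaH4_3_R [1,2,3,4,5] 960 :=
  (MuaH4_3_idx.ord_step MuaH4_4_ord).of_cons (cons_of_subset (by decide +kernel))

theorem MuaH4_2_ord : Ord.{u} iv MuaH4_2_R [1,2,3,4,5,6] 20160 :=
  (MuaH4_2_idx.ord_step MuaH4_3_ord).of_cons (cons_of_subset (by decide +kernel))

theorem MuaH4_1_ord : Ord.{u} iv MuaH4_1_R [1,2,3,4,5,6,7] 3265920 :=
  (MuaH4_1_idx.ord_step MuaH4_2_ord).of_cons (cons_of_subset (by decide +kernel))

theorem MuaH4_0_ord : Ord.{u} iv MuaH4_0_R [1,2,3,4,5,6,7,9] 898128000 :=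
  (MuaH4_0_idx.ord_step MuaH4_1_ord).of_cons (cons_of_subset (by decide +kernel))

noncomputable def MuaH4_lb_n_1 : Net :=
 (Net.cons 80 (nat_lit 0xd5fff5c2f7d13d082c00000000000000000000008258688410abdf153840)
 (Net.cons 40 (nat_lit 0x916087ec000000000000002d0b100000000000002ca8769d0000000000008b7b5ba6c8)
 (Net.cons 20 (nat_lit 0x25ed2000008e112000001258000000062f00000028cd4000004802c00000555200000005ec8)
 (Net.cons 10 (nat_lit 0x52000ae0039a00308002c000088002520000c0024000382002fe002c800160000dc0029000108)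
 (Net.cons 5 (nat_lit 0x50000200c02806050180481003000028100480001018010140300600010020120501a0101807018)
 (Net.cons 1 (nat_lit 0x484084a0014a100021004002000000485084a40042520484014252102029420014810102520080)
 (Net.cons 1 (nat_lit 0x5094a1290a5284a12148021004080052902508424294a10942528425284a10942109425214a52948)
 (Net.cons 1 (nat_lit 0x2008401404214a420084000800000029404204a10002528484210a0214a5214a5090a5290a421484)
 (Net.cons 1 (nat_lit 0x101400280a0084a00102000000000052000500000000a50008520005204242948021404094842842)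
 (Net.cons 1 (nat_lit 0x2001401004000000000000000002000000000000042000008000000010008000020000a000020)
 (Net.cons 5 (nat_lit 0x101a0240e01c040300704810030000201d058080381c0680d0080e0700007800030100581607c10)
 (Net.cons 10 (nat_lit 0x342000cd003ae0021400280000080026e0010900103003c20038f000bd001fa001a6002e100102)
 (Net.cons 20 (nat_lit 0x65683000009e0dc0000010580000000dfd00000066486000000f1ed00000929450000011000)
 (Net.cons 40 (nat_lit 0xc13f876cf00000000000002d0b1000000000000078c4b17fef000000000037cd8cd282)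
 (Net.cons 80 (nat_lit 0xd5fff5c2f7d13d082c00000000000000000000002220bfd404a788b35410)
 Net.nil)))))))))))))))

noncomputable def MuaH4_lb_n_3 : Net :=
 (Net.cons 160 (nat_lit 0x800000000000080000080002000000000200)
 (Net.cons 80 (nat_lit 0x450e0d8004020cc09a000000000000000000000d054583974990c576280)
 (Net.cons 40 (nat_lit 0x7504008000000000000338b3fb4100000000000f70a9f0ae00000000000a6a7e55012)
 (Net.cons 20 (nat_lit 0xa00000000b0dc800000ea61200000740c80000014adc00000c2ef000000291a00000092878)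
 (Net.cons 10 (nat_lit 0x100000000026200290002880016000230003d20005a000580022000310000200004c0003400306)
 (Net.cons 5 (nat_lit 0x48180101c028000600004008050080300e03010008060300807810040060280c00000)
 (Net.cons 1 (nat_lit 0x28400000002048100004090202000529084000010108529080290a00100409025204850908000000)
 (Net.cons 1 (nat_lit 0x12802020005284a429424094a121480294850840529421014a5280252908429481294a5094a5084a)
 (Net.cons 1 (nat_lit 0x2900000000210050140401084200a401084200a021085280802100029480010a4290a4290a4294a0)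
 (Net.cons 1 (nat_lit 0x2800000005280a028000014a0014000140500405014200000500005280000102409025214250840)
 (Net.cons 1 (nat_lit 0x400000000800500000000200000000000000000000000000080002000000001000002002000000)
 (Net.cons 5 (nat_lit 0x4160101c038000700004009070180300e070110081604c170780d02c190300a00000)
 (Net.cons 10 (nat_lit 0x1000000000262002b0002890016000230003d20007a000580022000310000200004c003ca00306)
 (Net.cons 20 (nat_lit 0xb00000000b0dc800000ea61200000740c80000015adc00000c2ef000000291a00000092878)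
 (Net.cons 40 (nat_lit 0x7504008000000000000338b3fb4100000000000f70a9f0ae00000000000a7e7e57012)
 (Net.cons 80 (nat_lit 0x450e0d8004020cc09a000000000000000000000d054587974990c576280)
 (Net.cons 160 (nat_lit 0x800000000000080000080002000000000200)
 Net.nil)))))))))))))))))

noncomputable def MuaH4_lb_n_4 : Net :=
 (Net.cons 160 (nat_lit 0x80000000000000070000000410000800)
 (Net.cons 80 (nat_lit 0x5a90401809053ce0088000000000000000000000272bf9650784181cd100)
 (Net.cons 40 (nat_lit 0x5e4081010a000000000065ef620440000000000042a73420520000000000c064012050)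
 (Net.cons 20 (nat_lit 0x15908000000fe8000000d0f620000053500000003225400000c913200000512ea0000093824)
 (Net.cons 10 (nat_lit 0x4800080003b8000b00019600300000c000240000c00003c001b60010800110001480001a003de)
 (Net.cons 5 (nat_lit 0x40400205804000100200a07010060000181a020140601206012020000301a0401a0401400802)
 (Net.cons 1 (nat_lit 0x200852042000025004a5000842840101480284a00942028000200212140100025094a0280a4)
 (Net.cons 1 (nat_lit 0x840400425284a0204a52148428081294a52940520025090a4290a421425084252102021481294a)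
 (Net.cons 1 (nat_lit 0x1400200852142400025200a401404290842948029005214050108421084090a0210050008029484)
 (Net.cons 1 (nat_lit 0x800000000280a0000050000028004094a52940508085080a028481090800100100000014000948)
 (Net.cons 1 (nat_lit 0x40000000000000000000400014200040000005004200000000000000000002000020)
 (Net.cons 5 (nat_lit 0xc040020580c010100300a07012014090181b0740c028110280c0181b05c07040180401600002)
 (Net.cons 10 (nat_lit 0x4800080003b8000b00019600300000c0002400034d0025a0035f002d700244001080001a00396)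
 (Net.cons 20 (nat_lit 0x15908000000fe8000000d0f62000005353300000b0203000000d559000007438800000928a4)
 (Net.cons 40 (nat_lit 0x5ec081010a000000000065ef620440000000000042a73420520000000000d16489705a)
 (Net.cons 80 (nat_lit 0x5a90401809053ce0088000000000000000000000272bfd651504981cd108)
 (Net.cons 160 (nat_lit 0x80000000000000070000000410000800)
 Net.nil)))))))))))))))))

noncomputable def MuaH4_lb_n_5 : Net :=
 (Net.cons 80 (nat_lit 0x77f8700000000000000000000000000000000000cdcafdbc187bae400000)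
 (Net.cons 40 (nat_lit 0x70f87000000000000000c01c001c0000000000001374a25b100000000000f3f7c00200)
 (Net.cons 20 (nat_lit 0x761fc000000016000000af07000000dc302000009b41c000008636e00000f0202)
 (Net.cons 10 (nat_lit 0x20000000001d8003ec000000000400008002980004000364000440000000052003fc0020000000)
 (Net.cons 5 (nat_lit 0x200000000030120301000010040100200c058000001c048120200c0180601018010100781c00010)
 (Net.cons 1 (nat_lit 0x8100000204850948500080084a4200002940100481284a02048100084294250848001480000a4)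
 (Net.cons 1 (nat_lit 0x4280000000129481094240140509401294a5214a5204a5290a5294a109025294000942529485294a)
 (Net.cons 1 (nat_lit 0x14000000001484294a5000802848021004290a120085290842948428084290a0004a50148000084)
 (Net.cons 1 (nat_lit 0x280000000029400094200040501000280a501405000a1200a52808100400294000142029400014a)
 (Net.cons 1 (nat_lit 0x140000000000200800000000280000800100000090000002000420000800140000020)
 (Net.cons 5 (nat_lit 0x200000000008120401c00010040100340d0580000c180400205c190580301818060140781c00010)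
 (Net.cons 10 (nat_lit 0x20000000001d8002430000000006000080029800142001be000440000100052003790022100000)
 (Net.cons 20 (nat_lit 0x761fc000000009000000af0700000055fc4000009b7bf00000ce36e00000f0202)
 (Net.cons 40 (nat_lit 0x70f87000000000000000c01c001c0000000000001354ea5f900000000000f3f7c00200)
 (Net.cons 80 (nat_lit 0x77f8700000000000000000000000000000000000cd8afdbe187bae500000)
 Net.nil)))))))))))))))

noncomputable def MuaH4_lb_n_6 : Net :=
 (Net.cons 160 (nat_lit 0x6000000000000000000000000000000000000000)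
 (Net.cons 80 (nat_lit 0x742104bc0a02300760000000000000000000000079d22e8c8c0fa9cc0d20)
 (Net.cons 40 (nat_lit 0x70332480100000000000e027811c0000000000007833e24e00000000000094a900be00)
 (Net.cons 20 (nat_lit 0xd0000000a4a1000000b8c30000007a0c800000c630800000281180000066f600000068220)
 (Net.cons 10 (nat_lit 0x30000300021a0022000312002600002000180000c80012000360000b8000f0001a8001a800030)
 (Net.cons 5 (nat_lit 0x8100600203008010000400200004010000401401808070020400e0480002000058140181e04812)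
 (Net.cons 1 (nat_lit 0x840001020210052800521425080a129401080a0010842048508400090052900029405084a0080a4)
 (Net.cons 1 (nat_lit 0x280a40000501085084a520020290a00802501421294a5014a5294a52942528425204a129425284a)
 (Net.cons 1 (nat_lit 0x10040000020004290a5210050108501401280a5290a428085214a1210a0210a02900509485294a4)
 (Net.cons 1 (nat_lit 0x280a00000000005004a5000202848000005014250940500005294052940500405000a029425284a)
 (Net.cons 1 (nat_lit 0x400000000000008005000000002000000080a02008000000090200040008000280050042000400)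
 (Net.cons 5 (nat_lit 0x8100600a030080280a04002010110100a0401e0600907003004080040402000058140181e03412)
 (Net.cons 10 (nat_lit 0x30000300021a0032200312002600002000380000e800128001c200137000f1001a8003a800030)
 (Net.cons 20 (nat_lit 0xd0000000a4e1000000b8c30000007a0c800000cd33500000039990000066f600000068220)
 (Net.cons 40 (nat_lit 0x74332480100000000000e227811c0000000000007833e24e00000000000094a980be00)
 (Net.cons 80 (nat_lit 0x742104bc0a02300760000000000000000000000079d22e8ccc0fb9cc0d20)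
 (Net.cons 160 (nat_lit 0x6000000000000000000000000000000000000000)
 Net.nil)))))))))))))))))

noncomputable def MuaH4_lb_n_7 : Net :=
 (Net.cons 80 (nat_lit 0x77f47000000000000000000000000000000000001fafff5c183f9c400000)
 (Net.cons 40 (nat_lit 0x70fc7000000000000000801c001c00000000000079f062df980000000000f4087e0010)
 (Net.cons 20 (nat_lit 0x2cb6400000803400000034c7000000134c00000078e8400000e820000000e0260)
 (Net.cons 10 (nat_lit 0x200000000001e002d60000000202002280005000240000a00004a000880002200008001a400220)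
 (Net.cons 5 (nat_lit 0x10000000004804048020000000010000180180005810040180401c018000401c06000040000400c)
 (Net.cons 1 (nat_lit 0x2140000000080a1004000000020485094a1294a1080a4010a129425284a129425280a4010a5284a0)
 (Net.cons 1 (nat_lit 0x42842000004090a50848001480214a1094a028005294052948529400084250142428425294250148)
 (Net.cons 1 (nat_lit 0x214000000001484210a400000000a508485014002908020080290a00142120025200852940520080)
 (Net.cons 1 (nat_lit 0x2800000000080a12142000000014a00048000005294000140409400000050000000000280250140)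
 (Net.cons 1 (nat_lit 0x1400000000000100001000000008500020000000802000020004200000008000000000100008020)
 (Net.cons 5 (nat_lit 0x1000000000480c00812000000001005c0f018000781e03c1803c1c028070401c0600f040100001c)
 (Net.cons 10 (nat_lit 0x200000000001e001890000000206002040005000241003a00004a0031900262000080005d00010)
 (Net.cons 20 (nat_lit 0x2cb6400000803400000034c7000000134c0000007acc600000e800000000e0170)
 (Net.cons 40 (nat_lit 0x70fc7000000000000000801c001c00000000000079f062df980000000000f4087e0010)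
 (Net.cons 80 (nat_lit 0x77f47000000000000000000000000000000000001f8fff5e183f9c480000)
 Net.nil)))))))))))))))

noncomputable def MuaH4_lb_n_9 : Net :=
 (Net.cons 160 (nat_lit 0xfffffffffbfe780106040704c000001400000000)
 (Net.cons 80 (nat_lit 0x2ece50dd1bb822ec4c500000000000000000000004047f8e0401ca040800)
 (Net.cons 40 (nat_lit 0x3250b22ada0000000000d13413dc22000000000001e4bc380000000000000c7dc00000)
 (Net.cons 20 (nat_lit 0xe38f4000006bcf2000000f87800000c2f2000000ba40000000d696000000843c00000068c00)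
 (Net.cons 10 (nat_lit 0x3d40022400164000840018a001fc00280000e2000b400004000600009800000000500022200000)
 (Net.cons 5 (nat_lit 0x2800008000201406002000000100005006000100500a020100000c03010028140001c0500c00000)
 (Net.cons 1 (nat_lit 0x401014a501480200a0280a5294002048529401010a100004200002848128404000840002500405)
 (Net.cons 1 (nat_lit 0x520484214a5084a529085294a0084a5294a129421280200808528421290a109405010a1294240800)
 (Net.cons 1 (nat_lit 0x200a420084014800900421484014a521485294200140101404290052948020400200850148521000)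
 (Net.cons 1 (nat_lit 0x501020014a00800000005294a009420280a0280002800008005280202040000005000a0294212000)
 (Net.cons 1 (nat_lit 0x210000000000080210000001401014000100000000200000002000000000040002008000)
 (Net.cons 5 (nat_lit 0x281f0780c038150181e0000c0101a07806010170501a020100000c03017028140001c0700c07c00)
 (Net.cons 10 (nat_lit 0x3d4002260037c00085001ca001fc0036a002e2000b400004000600000900000000500022200000)
 (Net.cons 20 (nat_lit 0xe38f4000006bcf2000000f87800000c2f2000000ba40000000d69e100000843c00000068c00)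
 (Net.cons 40 (nat_lit 0x3250b22ada0000000000d13413dc2a000000000001e4fd3800000000000004fdc00000)
 (Net.cons 80 (nat_lit 0x2ece50dd1bb822ec4c500000000000000000000004047f8e0401ca040800)
 (Net.cons 160 (nat_lit 0xfffffffffbfef80106040504c000001c00000000)
 Net.nil)))))))))))))))))

noncomputable def MuaH4_lb_n_64 : Net :=
 (Net.cons 160 (nat_lit 0x101022c440835102204140010201020288820000)
 (Net.cons 80 (nat_lit 0x4dd9b281c28e55b14032000000000000000000007beaf15edb50e5338174)
 (Net.cons 40 (nat_lit 0x83749d129a00000000004564748b4000000000007bb47bad240000000000d028000804)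
 (Net.cons 20 (nat_lit 0xc92880000006cb200000c936000000cbd1a000006a1700000026ef20000076a7e000006b740)
 (Net.cons 10 (nat_lit 0x2a8002ac0012c001860014000210002140005e003c0002d4003980003c0013a000ea00260003c0)
 (Net.cons 5 (nat_lit 0x300a04006028040300407804040020301404008010120600406012038020400e0101a0601200810)
 (Net.cons 1 (nat_lit 0x200a5214202902400024284a0004a0204002108521424000250040100404080240000421401084a4)
 (Net.cons 1 (nat_lit 0x84a5090a120420080850940428421084a4204a529421294a529021204a509405214a5014a50840)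
 (Net.cons 1 (nat_lit 0x14a521484200250140409020214a428024210a529485210a40140001085294a02108520081290a0)
 (Net.cons 1 (nat_lit 0x280a4204a00002008020000012808400020090a5004802800028000090042840501400014050100)
 (Net.cons 1 (nat_lit 0x1005000000000000001000000040000000000050802000400004000040000020000000002000000)
 (Net.cons 5 (nat_lit 0x3818040060280102406068050280305c120480b0180d064030341207c120480307013048130500c)
 (Net.cons 10 (nat_lit 0xaa0027c00108001270036500255000be0001c003d400089003e1001ae0039d00366003d800370)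
 (Net.cons 20 (nat_lit 0xc071000000028b500000ba20100000d9f9a000003f2450000074ea1000004fad7000004f2c8)
 (Net.cons 40 (nat_lit 0x8bad0d57d80000000000777079eb50000000000003bd87b8a20000000000799410a010)
 (Net.cons 80 (nat_lit 0x5dc99045c28a91a5e320000000000000000000003b6f6d4fed53c5b41438)
 (Net.cons 160 (nat_lit 0x101022c44082b10000c00051100040880002b020)
 Net.nil)))))))))))))))))

noncomputable def MuaH4_lb_n_66 : Net :=
 (Net.cons 160 (nat_lit 0x5898800000000000000000000000000000000000)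
 (Net.cons 80 (nat_lit 0xa3be180000000000000000000000000000000000a87c4845d211ab6a220a)
 (Net.cons 40 (nat_lit 0xfc189108000000000000bffff80000000000000012d4489b520000000000712f6eaf00)
 (Net.cons 20 (nat_lit 0x8410000000f600800000b5622000003fec000000ef63a00000b125a0000031478000008f798)
 (Net.cons 10 (nat_lit 0x4000100003e400388002d00036e0007c001d60004c000e2000380016c001d6003540009e000ba)
 (Net.cons 5 (nat_lit 0x30080600002806008000380401802050000201005010060040600c0401805808000100100000000)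
 (Net.cons 1 (nat_lit 0x20020010000808521001014052000521080004a5090012000120481210a101404294810940021020)
 (Net.cons 1 (nat_lit 0x1014050800129424084a5284a5094a5084202142528425284a52948128425084a529485294a12840)
 (Net.cons 1 (nat_lit 0x8021000290a5014a5290a528484214a4010a5210a129085284a4014a521085294a0214a529020)
 (Net.cons 1 (nat_lit 0x4050000008400004a52142500020090800940501005290a000420080a40100521405294000000)
 (Net.cons 1 (nat_lit 0x20000000000000001000810800000000004800000020400000000040400000000a00848000000)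
 (Net.cons 5 (nat_lit 0x3809068000581b0281305014074190580c0341307001028130741c03014040100001602c0902400)
 (Net.cons 10 (nat_lit 0x2400010000073000490039b002a200066001f50021500007000d4000530034c001d50022a002e8)
 (Net.cons 20 (nat_lit 0x8410000000f600000000156020000073bca00000deb4e000003a04a000003449d00000c409a)
 (Net.cons 40 (nat_lit 0xfc1a0908000000000000fffff80002000000000038ab0595a30000000000f44cddc3d0)
 (Net.cons 80 (nat_lit 0xbbb6980000000000000300000000000000000000a8791a54a46454d5404a)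
 (Net.cons 160 (nat_lit 0x5898800000000000000000000000000000000000)
 Net.nil)))))))))))))))))

noncomputable def MuaH4_lb_n_68 : Net :=
 (Net.cons 160 (nat_lit 0xe000000000000000000000000000000000000)
 (Net.cons 80 (nat_lit 0xfd8f4800000000000000000000000000000000000080112800002040c086)
 (Net.cons 40 (nat_lit 0xf8000000000000000000ffde5000000000000000fe374d10800000000000407a4a53c6)
 (Net.cons 20 (nat_lit 0x8000000000b9e6a000001e20e000008008400000bd4a0000008c93a0000058816000004259a)
 (Net.cons 10 (nat_lit 0xb000000001d0003480034a003dc0010200096001c600034002b0002800008e0009c0019200388)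
 (Net.cons 5 (nat_lit 0x101400000040180400e0180a0401e0201400000000120581002014010180280206000020180101c)
 (Net.cons 1 (nat_lit 0x8000000002042500025080802902101421214000002528405004050000528005000852902020400)
 (Net.cons 1 (nat_lit 0x50940000005294a1294050802521424084a1090a50908509485290a5294a521481294a1094212142)
 (Net.cons 1 (nat_lit 0x2008000000090050102029405290850100429005200802948029081004852808021084290a1290a4)
 (Net.cons 1 (nat_lit 0x501000000002002028005200240902000021000a5004002840528000014a50000021400004000808)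
 (Net.cons 1 (nat_lit 0x8000000000000100000280000040000001000000002000000284000000508000000200002000000)
 (Net.cons 5 (nat_lit 0x401400000064130041d0200a04017020040280d05803068190580006c1205809058130701407c14)
 (Net.cons 10 (nat_lit 0xb000000003a900304001c90020d0030a00067002260036c00384001c8000f6000d2001b8003b0)
 (Net.cons 20 (nat_lit 0x8000000000d0ad400000497090000080084000001c7a8000001152300000c86ec00000235c8)
 (Net.cons 40 (nat_lit 0xf8000000000000000000ffbe6000000000000000de57f0c8000000000000207ff8f4b6)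
 (Net.cons 80 (nat_lit 0xfd8f480000000000000000000000000000000000808001004820044008a6)
 (Net.cons 160 (nat_lit 0xe000000000000000000000000000000000000)
 Net.nil)))))))))))))))))

noncomputable def MuaH4_lb_n_70 : Net :=
 (Net.cons 160 (nat_lit 0x280000000000000000000000000000000000000)
 (Net.cons 80 (nat_lit 0x6a84000000000000000000000000000000000000fd000000000000000000)
 (Net.cons 40 (nat_lit 0x68000000000000000000fac23000000000000000ffffa80800000000000087bc455022)
 (Net.cons 20 (nat_lit 0xbe80000000bc980000009ff6800000fffe800000ff00000000a30600000038738)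
 (Net.cons 10 (nat_lit 0x400000000320001480025a002b0001e0003680000a00018000f0000fc000a0003f80000e00390)
 (Net.cons 5 (nat_lit 0x2000000000101207816000060480c04000000040100000002010180401c010080580e0001007000)
 (Net.cons 1 (nat_lit 0x200000000008081200a5284842940029025210052000008401014a40108100085294252942520000)
 (Net.cons 1 (nat_lit 0x10000000001280a5090a1014a1294a529481014a4284a4014a5284a5210a1094a1294a0010a5094a)
 (Net.cons 1 (nat_lit 0x20000000000900429484280a5210a02148420085210a5000842902429081290852942500005200a4)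
 (Net.cons 1 (nat_lit 0x280a5080a0000a0294012140001401204a0014a5280a50000101025080a0000a5014a)
 (Net.cons 1 (nat_lit 0x40020001000040040000020000000000000020204000000000000204050000500000)
 (Net.cons 5 (nat_lit 0x200000000078080781e040060480c03c000440406c0000c190301c0641f0501e0240e0701007408)
 (Net.cons 10 (nat_lit 0x40000000007b00148003fa002b0001e00036a0000a0009c0015c0005d0002a003f80000e00390)
 (Net.cons 20 (nat_lit 0xfc88000000fc1a0000009ff6800000fffe800000ff00000000a30600000038738)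
 (Net.cons 40 (nat_lit 0x68000000000000000000fac23000000000000000ffffa80800000000000087bc455022)
 (Net.cons 80 (nat_lit 0x6a84000000000000000000000000000000000000fd000000000000000000)
 (Net.cons 160 (nat_lit 0x280000000000000000000000000000000000000)
 Net.nil)))))))))))))))))

noncomputable def MuaH4_lb_n_71 : Net :=
 (Net.cons 80 (nat_lit 0x8000000000000000000000000000000000000000c0000000000000000000)
 (Net.cons 40 (nat_lit 0x80000000000000000000d8000000000000000000c00000000000000000000000000000)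
 (Net.cons 20 (nat_lit 0xe000000000dc000000000000000000da80000000f0000000009000000000a0000)
 (Net.cons 10 (nat_lit 0x2800010000200001ba0020000000003800000000000003c000000003000000000000)
 (Net.cons 5 (nat_lit 0x600c0080c0081c058080601207004060140601e01000040140400e05808040020101c)
 (Net.cons 1 (nat_lit 0x14a50000001025094250102409425094a52002528485014a5014a1284a12848509024)
 (Net.cons 1 (nat_lit 0x4284a5290a529425214252842508485094a529481284a5290a5294a4284a5284812948)
 (Net.cons 1 (nat_lit 0x210a021485290a028005210852808429404214a0294a509004010a4014a0214a028480)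
 (Net.cons 1 (nat_lit 0x294012848508405000a02902101021280a501405290a0080a00942029405294050140)
 (Net.cons 1 (nat_lit 0x9420284202000000400080000800008000010010040000420010800140000000)
 (Net.cons 5 (nat_lit 0x5012024190241a064100501906812060180501d04c11020180201f06410040010441c)
 (Net.cons 10 (nat_lit 0x3000030100200002dc0020000000003400000000201003a000101002800020100000)
 (Net.cons 20 (nat_lit 0xe000000000ea000000000000000000b700000000e8000000006000000000c0000)
 (Net.cons 40 (nat_lit 0x80000000000000000000e8000000000000000000a00000000000000000000000000000)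
 (Net.cons 80 (nat_lit 0x8000000000000000000000000000000000000000a0000000000000000000)
 Net.nil)))))))))))))))

noncomputable def MuaH4_lb_n : List Net := (apd [Net.nil,
 MuaH4_lb_n_1,
 Net.rev MuaH4_lb_n_1,
 MuaH4_lb_n_3,
 MuaH4_lb_n_4,
 MuaH4_lb_n_5,
 MuaH4_lb_n_6,
 MuaH4_lb_n_7,
 Net.nil,
 MuaH4_lb_n_9,
 Net.nil,
 Net.nil,
 Net.nil,
 Net.nil,
 Net.nil,
 Net.nil,
 Net.nil,
 Net.nil,
 Net.nil,
 Net.nil,
 Net.nil,
 Net.nil,
 Net.nil,
 Net.nil,
 Net.nil,
 Net.nil,
 Net.nil,
 Net.nil,
 Net.nil,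
 Net.nil,
 Net.nil,
 Net.nil,
 Net.nil,
 Net.nil,
 Net.nil,
 Net.nil,
 Net.nil,
 Net.nil,
 Net.nil,
 Net.nil]
 [Net.nil,
 Net.nil,
 Net.nil,
 Net.nil,
 Net.nil,
 Net.nil,
 Net.nil,
 Net.nil,
 Net.nil,
 Net.nil,
 Net.nil,
 Net.nil,
 Net.nil,
 Net.nil,
 Net.nil,
 Net.nil,
 Net.nil,
 Net.nil,
 Net.nil,
 Net.nil,
 Net.nil,
 Net.nil,
 Net.nil,
 Net.nil,
 MuaH4_lb_n_64,
 Net.rev MuaH4_lb_n_64,
 MuaH4_lb_n_66,
 Net.rev MuaH4_lb_n_66,
 MuaH4_lb_n_68,
 Net.rev MuaH4_lb_n_68,
 MuaH4_lb_n_70,
 MuaH4_lb_n_71,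
 Net.rev MuaH4_lb_n_71])

theorem MuaH4_lb_n_ok : NetsOK 320 MuaH4_lb_n := netsOK_of (by decide +kernel)

theorem MuaH4_lb : 898128000 ≤ Nat.card (cl (gp nets) [1,2,3,4,5,6,7,9]) :=
  lb_of_itwB (k := 9) (n := 275) nets_ok MuaH4_lb_n_ok (by norm_num) (by norm_num) (tbA_pt nets_ok) (tbA_pt MuaH4_lb_n_ok) (φ := look2 (nat_lit 0x2af000e00023100053003ab00216002170016d00274001400045700527000520021c0045100228003f200066003e5003d7003640015c001ff002230004300015003530039d00040002c7000db0022f003b9003a4005490039e000e3003ee000d50054c0017a0039b00169001e50028a001810051e0014f0041700354000bc004eb00270003b10013d00229003b700156001ef000500016e001e20017500484001740042600494004e50016c0005600171000dd001d1002b900207003ac00529002210045b0010200135001cf001f2003fb003950022d001cb00464002df0046600369002ea002f200134004c600071003a700177000fe001ea0044e0003e0010d003f8003fc002440003c001680004d003a10035a001c9008ca006c7008c5007a40066d00766008c70075f008cc005de00607008e50069f007d4008d1007d60061800767005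f9006a1005970071f006d4008ba006370081800615006cd00707007b30087000727005a1007d2005f10079f00836006de006bb006bf007b700620006e3006d1005cb008030060f00738005e80072a005da007750086e00885007bf0065d007cc008250061c0070200674007060059d00862005fe0066f008d80063a007de008a3006d9007460071a008a80089f007ac00600005ba008e8005e200840008d4006a9007ba0086b00681006ac008f1007b0007b2007030064c007e20074e008450089600748006be006c2006e2006ef007b6006ba0071e0058200796008b3007e00085500781007cd00627005c00062d0070c006fb008200070e00635006590067e006660085800641006c6008c2006d70082c005ec00679008830076c007e9006e800762005b700677005ce0077a0080f0078700784006fd00668007560064900743008a0006b70089200691007f4007d700593008fb0068600807007e8006d6006690078f0071400000) 20 64) (by decide +kernel) (by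
    rw [← cl_eq_of_slpB (k := 9) (D := [(64,[3,4,1,5,6,5,1,6,4,2]),
 (65,[1,4,6,2,5,6,5,2,4,3]),
 (66,[5,64,7,64,5,7,64,7,5,64]),
 (67,[65,5,7,65,7,5,65,7,65,5]),
 (68,[64,7,5,65,7,65,7,65,5]),
 (69,[5,64,7,64,7,64,5,7,65]),
 (70,[64,5,65,7,5,7,64,5,65]),
 (71,[70,69,66,69,66]),
 (72,[67,68,67,68,70])]) MuaH4_lb_n_ok (by norm_num) (by decide +kernel)]
    exact lb_of_chainB MuaH4_lb_n_ok (C := [([1,2,3,4,5,6,7,64,65,66,67,68,69,70,71,72],[9,1,3,4,6,64,66,71,9,3,64,1,68,3],0,0,275),
 ([5,7,64,65,66,67,68,69,70,71,72],[1,3,4,6,64,66,71,6,66,1],1,1,162),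
 ([66,67,68,69,70,71,72],[5,64,66,68,64,70,71,64,68,5],2,2,105),
 ([71,72],[66,68,70,71,68,66,68,70],3,3,64),
 ([],[71,71],4,4,3)]) (by decide +kernel))

theorem Mua_mb : MB (cl (gp nets) L) 2 1 :=
  mb_one (w := 11) (n := 44) (La := L) (ix := nth 0 [0,0,0,0,1,7,12,18,24,33]) (by norm_num) (by norm_num) (nets_iv.sval _) (nets_rel.sval fun r hr x hx => mem_cl (sub_of_allR (by decide +kernel) r hr x hx)) (by decide +kernel)
    (TStep.trans (TStep.trans (TStep.trans (TStep.trans (TStep.trans (TStep.trans (TStep.trans (TStep.trans (TStep.trans (TStep.trans (TStep.trans (TStep.trans (TStep.trans (TStep.trans (TStep.trans (TStep.trans (TStep.trans (TStep.trans (TStep.trans (TStep.trans (TStep.trans (TStep.trans (TStep.trans (TStep.trans (TStep.trans (TStep.trans (TStep.trans (TStep.trans (TStep.trans (TStep.repar (k' := 36) (by norm_num) (by norm_num) (by decide +kernel) (by decide +kernel) Mua1_b)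
    (TStep.enum0 (by norm_num) (by norm_num) Mua2_0 (Gs := Mua2G) (by decide +kernel)))
    (TStep.repar (k' := 35) (by norm_num) (by norm_num) (by decide +kernel) (by decide +kernel) Mua3_b))
    (TStep.enum0 (by norm_num) (by norm_num) Mua4_0 (Gs := Mua4G) (by decide +kernel)))
    (TStep.repar (k' := 30) (by norm_num) (by norm_num) (by decide +kernel) (by decide +kernel) Mua5_b))
    (TStep.enum0 (by norm_num) (by norm_num) Mua6_0 (Gs := Mua6G) (by decide +kernel)))
    (TStep.repar (k' := 26) (by norm_num) (by norm_num) (by decide +kernel) (by decide +kernel) Mua7_b))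
    (TStep.enum0 (by norm_num) (by norm_num) Mua8_0 (Gs := Mua8G) (by decide +kernel)))
    (TStep.repar (k' := 20) (by norm_num) (by norm_num) (by decide +kernel) (by decide +kernel) Mua9_b))
    (TStep.enum0 (by norm_num) (by norm_num) Mua10_0 (Gs := Mua10G) (by decide +kernel)))
    (TStep.repar (k' := 17) (by norm_num) (by norm_num) (by decide +kernel) (by decide +kernel) Mua11_b))
    (TStep.enum0 (by norm_num) (by norm_num) Mua12_0 (Gs := Mua12G) (by decide +kernel)))
    (TStep.repar (k' := 12) (by norm_num) (by norm_num) (by decide +kernel) (by decide +kernel) Mua13_b))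
    (TStep.repar (k' := 12) (by norm_num) (by norm_num) (by decide +kernel) (by decide +kernel) Mua14_b))
    (TStep.enum (by norm_num) (by norm_num) Mua15_0 (I := [2,7,8,12,14,15,18,19,22,23,43]) (by decide +kernel) (by decide +kernel) MuaH0_0_ord (c := 1) (lb_sval (fun _ hx => mem_cl (sub_of_subB (by decide +kernel) _ hx)) MuaH0_lb (by norm_num)) (Gs := Mua15G) (by decide +kernel)))
    (TStep.repar (k' := 8) (by norm_num) (by norm_num) (by decide +kernel) (by decide +kernel) Mua16_b))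
    (TStep.repar (k' := 8) (by norm_num) (by norm_num) (by decide +kernel) (by decide +kernel) Mua17_b))
    (TStep.enum (by norm_num) (by norm_num) Mua18_0 (I := [2,7,8,18,19,23,24,28,29,30,43]) (by decide +kernel) (by decide +kernel) MuaH1_0_ord (c := 1) (lb_sval (fun _ hx => mem_cl (sub_of_subB (by decide +kernel) _ hx)) MuaH1_lb (by norm_num)) (Gs := Mua18G) (by decide +kernel)))
    (TStep.repar (k' := 7) (by norm_num) (by norm_num) (by decide +kernel) (by decide +kernel) Mua19_b))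
    (TStep.repar (k' := 7) (by norm_num) (by norm_num) (by decide +kernel) (by decide +kernel) Mua20_b))
    (TStep.enum (by norm_num) (by norm_num) Mua21_0 (I := [1,2,5,7,8,9,18,19,21,23,43]) (by decide +kernel) (by decide +kernel) MuaH2_0_ord (c := 1) (lb_sval (fun _ hx => mem_cl (sub_of_subB (by decide +kernel) _ hx)) MuaH2_lb (by norm_num)) (Gs := Mua21G) (by decide +kernel)))
    (TStep.repar (k' := 6) (by norm_num) (by norm_num) (by decide +kernel) (by decide +kernel) Mua22_b))
    (TStep.enum (by norm_num) (by norm_num) Mua23_0 (I := [2,7,8,12,14,15,18,19,22,23,43]) (by decide +kernel) (by decide +kernel) MuaH0_0_ord (c := 1) (lb_sval (fun _ hx => mem_cl (sub_of_subB (by decide +kernel) _ hx)) MuaH0_lb (by norm_num)) (Gs := Mua23G) (by decide +kernel)))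
    (TStep.repar (k' := 4) (by norm_num) (by norm_num) (by decide +kernel) (by decide +kernel) Mua24_b))
    (TStep.enum (by norm_num) (by norm_num) Mua25_0 (I := [0,1,2,3,4,5,6,7,8,9,10,11,12,13,14,15,16,17,18,19,20,21,22,23,43]) (by decide +kernel) (by decide +kernel) MuaH3_0_ord (c := 1) (lb_sval (fun _ hx => mem_cl (sub_of_subB (by decide +kernel) _ hx)) MuaH3_lb (by norm_num)) (Gs := Mua25G) (by decide +kernel)))
    (TStep.repar (k' := 3) (by norm_num) (by norm_num) (by decide +kernel) (by decide +kernel) Mua26_b))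
    (TStep.enum (by norm_num) (by norm_num) Mua27_0 (I := [0,1,2,3,4,5,6,7,8,9,10,11,12,13,14,15,16,17,18,19,20,21,22,23,33,34,35,36,37,38,39,40,43]) (by decide +kernel) (by decide +kernel) MuaH4_0_ord (c := 1) (lb_sval (fun _ hx => mem_cl (sub_of_subB (by decide +kernel) _ hx)) MuaH4_lb (by norm_num)) (Gs := Mua27G) (by decide +kernel)))
    (TStep.repar (k' := 2) (by norm_num) (by norm_num) (by decide +kernel) (by decide +kernel) Mua28_b))
    (TStep.enum (by norm_num) (by norm_num) Mua29_1 (I := [0,1,2,3,4,5,6,7,8,9,10,11,12,13,14,15,16,17,18,19,20,21,22,23,33,34,35,36,37,38,39,40,43]) (by decide +kernel) (by decide +kernel) MuaH4_0_ord (c := 1) (lb_sval (fun _ hx => mem_cl (sub_of_subB (by decide +kernel) _ hx)) MuaH4_lb (by norm_num)) (Gs := Mua29G) (by decide +kernel)))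
    (TStep.repar (k' := 0) (by norm_num) (by norm_num) (by decide +kernel) (by decide +kernel) Mua30_b))
    (L := [1,2,3,4,5,6,7,8,9]) (I := [0,1,2,3,4,5,6,7,8,9,10,11,12,13,14,15,16,17,18,19,20,21,22,23,24,25,26,27,28,29,30,31,32,33,34,35,36,37,38,39,40,41,42,43]) (by decide +kernel) (by decide +kernel) ord card.ge (cl_sval_top _ _)

end Cfsg.Lib.Comp.Co2y
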