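import Cfsg.Agent.Lib.Comp.Co2y.Base

set_option maxRecDepth 100000
set_option Elab.async false

namespace Cfsg.Lib.Comp.Co2y

universe u

noncomputable def MucH0_1_R : List (List ℕ × ℕ) := [([3],1),
 ([1],2),
 ([1,3],2),
 ([8],1),
 ([3,8],1),
 ([1,8],2),
 ([1,2],0)]

noncomputable def MucH0_1_n_1 : Net :=
 (Net.cons 2 (nat_lit 0x2)
 (Net.cons 1 (nat_lit 0x14)
 (Net.cons 2 (nat_lit 0x10)
 Net.nil)))

noncomputable def MucH0_1_n_3 : Net :=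
 (Net.cons 4 (nat_lit 0xc)
 (Net.cons 2 (nat_lit 0x30)
 (Net.cons 4 (nat_lit 0xc)
 Net.nil)))

noncomputable def MucH0_1_n_8 : Net :=
 (Net.cons 1 (nat_lit 0x55)
 Net.nil)

noncomputable def MucH0_1_n : List Net := [Net.nil,
 MucH0_1_n_1,
 Net.rev MucH0_1_n_1,
 MucH0_1_n_3,
 Net.nil,
 Net.nil,
 Net.nil,
 Net.nil,
 MucH0_1_n_8]

theorem MucH0_1_n_ok : NetsOK 8 MucH0_1_n := netsOK_of (by decide +kernel)

theorem MucH0_1_n_rel : Rels (gp MucH0_1_n) MucH0_1_R := rels_of_relsB (k := 3) MucH0_1_n_ok (by norm_num) (by decide +kernel)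

theorem MucH0_1_fin : finB 8 MucH0_1_n [1,2,3,8] 8 (runH 8 MucH0_1_n (fun x p => ptInv (nth Net.nil MucH0_1_n x) p) iv MucH0_1_R [] ([1,2,3].map fun x => [x]) 0 []
  [1,5,9,0,12,16,24,4,8,20,24,4,8,12,16,20,24]
  (defsH 8 MucH0_1_n (ones 80) [8,1,2,3,1,8] (Nat.shiftLeft 1 0) 0)) = true := by decide +kernel

theorem MucH0_1_idx : Idx.{u} iv (MucH0_1_R ++ []) ([1,2,3].map fun x => [x]) [1,2,3,8] 8 :=
  Reach.idx MucH0_1_n_ok (reach_runH MucH0_1_n_ok (fun x p _ => ptInv_gp MucH0_1_n_ok x p) MucH0_1_n_rel (reach_defsH MucH0_1_n_ok _ _ _ _ _ _) _ _) MucH0_1_fin (by norm_num)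

end Cfsg.Lib.Comp.Co2y
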