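import Cfsg.Agent.Lib.Comp.Co2y.MucH0_0
import Cfsg.Agent.Lib.Comp.Co2y.MucH0_1
import Cfsg.Agent.Lib.Comp.Co2y.MucH0_2
import Cfsg.Agent.Lib.Comp.Co2y.MucH0_3
import Cfsg.Agent.Lib.Comp.Co2y.Muc0
import Cfsg.Agent.Lib.Comp.Co2y.Main
import Cfsg.Agent.Lib.Comp.Cover

set_option maxRecDepth 100000
set_option Elab.async false

namespace Cfsg.Lib.Comp.Co2y

universe u

theorem MucH0_3_ord : Ord.{u} iv MucH0_3_R [1,2] 3 :=
  (MucH0_3_idx.ord_base).of_cons (cons_of_subset (by decide +kernel))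

theorem MucH0_2_ord : Ord.{u} iv MucH0_2_R [1,2,3] 12 :=
  (MucH0_2_idx.ord_step MucH0_3_ord).of_cons (cons_of_subset (by decide +kernel))

theorem MucH0_1_ord : Ord.{u} iv MucH0_1_R [1,2,3,8] 96 :=
  (MucH0_1_idx.ord_step MucH0_2_ord).of_cons (cons_of_subset (by decide +kernel))

theorem MucH0_0_ord : Ord.{u} iv MucH0_0_R [1,2,3,7,8] 192 :=
  (MucH0_0_idx.ord_step MucH0_1_ord).of_cons (cons_of_subset (by decide +kernel))

noncomputable def MucH0_lb_n_1 : Net :=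
 (Net.cons 4 (nat_lit 0x4)
 (Net.cons 2 (nat_lit 0x22)
 (Net.cons 1 (nat_lit 0x41)
 (Net.cons 2 (nat_lit 0x21)
 (Net.cons 4 (nat_lit 0x2)
 Net.nil)))))

noncomputable def MucH0_lb_n_3 : Net :=
 (Net.cons 2 (nat_lit 0x33)
 (Net.cons 4 (nat_lit 0x5)
 Net.nil))

noncomputable def MucH0_lb_n_7 : Net :=
 (Net.cons 4 (nat_lit 0x4)
 (Net.cons 1 (nat_lit 0x55)
 (Net.cons 2 (nat_lit 0x30)
 (Net.cons 4 (nat_lit 0x4)
 Net.nil))))

noncomputable def MucH0_lb_n_8 : Net :=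
 (Net.cons 4 (nat_lit 0x4)
 (Net.cons 1 (nat_lit 0x55)
 (Net.cons 2 (nat_lit 0x21)
 (Net.cons 4 (nat_lit 0xb)
 Net.nil))))

noncomputable def MucH0_lb_n_64 : Net :=
 (Net.cons 4 (nat_lit 0x2)
 (Net.cons 1 (nat_lit 0x50)
 (Net.cons 2 (nat_lit 0x22)
 (Net.cons 4 (nat_lit 0x8)
 Net.nil))))

noncomputable def MucH0_lb_n_66 : Net :=
 (Net.cons 4 (nat_lit 0x4)
 (Net.cons 2 (nat_lit 0x22)
 (Net.cons 1 (nat_lit 0x14)
 (Net.cons 2 (nat_lit 0x12)
 (Net.cons 4 (nat_lit 0x2)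
 Net.nil)))))

noncomputable def MucH0_lb_n_68 : Net :=
 (Net.cons 4 (nat_lit 0x4)
 (Net.cons 1 (nat_lit 0x14)
 (Net.cons 2 (nat_lit 0x30)
 (Net.cons 4 (nat_lit 0x8)
 Net.nil))))

noncomputable def MucH0_lb_n : List Net := (apd [Net.nil,
 MucH0_lb_n_1,
 Net.rev MucH0_lb_n_1,
 MucH0_lb_n_3,
 Net.nil,
 Net.nil,
 Net.nil,
 MucH0_lb_n_7,
 MucH0_lb_n_8,
 Net.nil,
 Net.nil,
 Net.nil,
 Net.nil,
 Net.nil,
 Net.nil,
 Net.nil,
 Net.nil,
 Net.nil,
 Net.nil,
 Net.nil,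
 Net.nil,
 Net.nil,
 Net.nil,
 Net.nil,
 Net.nil,
 Net.nil,
 Net.nil,
 Net.nil,
 Net.nil,
 Net.nil,
 Net.nil,
 Net.nil,
 Net.nil,
 Net.nil,
 Net.nil,
 Net.nil,
 Net.nil,
 Net.nil,
 Net.nil,
 Net.nil]
 [Net.nil,
 Net.nil,
 Net.nil,
 Net.nil,
 Net.nil,
 Net.nil,
 Net.nil,
 Net.nil,
 Net.nil,
 Net.nil,
 Net.nil,
 Net.nil,
 Net.nil,
 Net.nil,
 Net.nil,
 Net.nil,
 Net.nil,
 Net.nil,
 Net.nil,
 Net.nil,
 Net.nil,
 Net.nil,
 Net.nil,
 Net.nil,
 MucH0_lb_n_64,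
 Net.rev MucH0_lb_n_64,
 MucH0_lb_n_66,
 Net.rev MucH0_lb_n_66,
 MucH0_lb_n_68,
 Net.rev MucH0_lb_n_68])

theorem MucH0_lb_n_ok : NetsOK 8 MucH0_lb_n := netsOK_of (by decide +kernel)

theorem MucH0_lb : 96 ≤ Nat.card (cl (gp nets) [1,2,3,7,8]) :=
  lb_of_itwB (k := 3) (n := 8) nets_ok MucH0_lb_n_ok (by norm_num) (by norm_num) (tbA_pt nets_ok) (tbA_pt MucH0_lb_n_ok) (φ := look2 (nat_lit 0x6c6006e3007b6006410062000600006ef005ba) 20 64) (by decide +kernel) (by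
    rw [← cl_eq_of_slpB (k := 3) (D := [(64,[1,8]),
 (65,[8,2]),
 (66,[3,1]),
 (67,[2,3]),
 (68,[64,66]),
 (69,[67,65])]) MucH0_lb_n_ok (by norm_num) (by decide +kernel)]
    exact lb_of_chainB MucH0_lb_n_ok (C := [([64,65,66,67,68,69],[1,7,8],0,0,8),
 ([68,69],[64,64,66],1,1,4),
 ([],[68,68],5,5,3)]) (by decide +kernel))

theorem Muc_mb : MB (cl (gp nets) L) 8855 1 :=
  mb_one (w := 35) (n := 44) (La := L) (ix := nth 0 [0,0,0,0,1,7,12,18,24,33]) (by norm_num) (by norm_num) (nets_iv.sval _) (nets_rel.sval fun r hr x hx => mem_cl (sub_of_allR (by decide +kernel) r hr x hx)) (by decide +kernel)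
    (TStep.trans (TStep.trans (TStep.trans (TStep.trans (TStep.trans (TStep.trans (TStep.trans (TStep.trans (TStep.trans (TStep.trans (TStep.trans (TStep.trans (TStep.trans (TStep.trans (TStep.repar (k' := 36) (by norm_num) (by norm_num) (by decide +kernel) (by decide +kernel) Muc1_b)
    (TStep.enum0 (by norm_num) (by norm_num) Muc2_0 (Gs := Muc2G) (by decide +kernel)))
    (TStep.repar (k' := 31) (by norm_num) (by norm_num) (by decide +kernel) (by decide +kernel) Muc3_b))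
    (TStep.enum0 (by norm_num) (by norm_num) Muc4_0 (Gs := Muc4G) (by decide +kernel)))
    (TStep.repar (k' := 27) (by norm_num) (by norm_num) (by decide +kernel) (by decide +kernel) Muc5_b))
    (TStep.enum0 (by norm_num) (by norm_num) Muc6_0 (Gs := Muc6G) (by decide +kernel)))
    (TStep.repar (k' := 22) (by norm_num) (by norm_num) (by decide +kernel) (by decide +kernel) Muc7_b))
    (TStep.enum0 (by norm_num) (by norm_num) Muc8_0 (Gs := Muc8G) (by decide +kernel)))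
    (TStep.repar (k' := 17) (by norm_num) (by norm_num) (by decide +kernel) (by decide +kernel) Muc9_b))
    (TStep.enum0 (by norm_num) (by norm_num) Muc10_0 (Gs := Muc10G) (by decide +kernel)))
    (TStep.repar (k' := 10) (by norm_num) (by norm_num) (by decide +kernel) (by decide +kernel) Muc11_b))
    (TStep.enum0 (by norm_num) (by norm_num) Muc12_0 (Gs := Muc12G) (by decide +kernel)))
    (TStep.repar (k' := 1) (by norm_num) (by norm_num) (by decide +kernel) (by decide +kernel) Muc13_b))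
    (TStep.enum (by norm_num) (by norm_num) Muc14_0 (I := [0,2,4,18,19,20,24,25,28,29,43]) (by decide +kernel) (by decide +kernel) MucH0_0_ord (c := 2) (lb_sval (fun _ hx => mem_cl (sub_of_subB (by decide +kernel) _ hx)) MucH0_lb (by norm_num)) (Gs := Muc14G) (by decide +kernel)))
    (TStep.repar (k' := 0) (by norm_num) (by norm_num) (by decide +kernel) (by decide +kernel) Muc15_b))
    (L := [1,2,3,4,5,6,7,8,9]) (I := [0,1,2,3,4,5,6,7,8,9,10,11,12,13,14,15,16,17,18,19,20,21,22,23,24,25,26,27,28,29,30,31,32,33,34,35,36,37,38,39,40,41,42,43]) (by decide +kernel) (by decide +kernel) ord card.ge (cl_sval_top _ _)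

end Cfsg.Lib.Comp.Co2y
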