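import Cfsg.Agent.Lib.Comp.Co2y.T01

set_option maxRecDepth 100000
set_option Elab.async false

namespace Cfsg.Lib.Comp.Co2y

universe u

theorem T0_fin : finB 5120 T0_n [1,2,3,4,5,6,7,8,9] 4600 (runH 5120 T0_n (tbk 13 4 prs13 T0_n 1024) iv T0_R [] ([1,2,3,4,5,6,7,8].map fun x => [x]) 0 []
  (apd [44,48,52,56,60,64,72,76,80,84,88,92,96,100,104,108,112,116,120,124,132,136,140,144,148,152,156,160,164,168,172,0,4,8,12,16,20,24,28,32,36,40,44,48,52,56,60,72,76,84,88,92,96,100,104,108,112,116,120,132]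
 (apd [136,140,144,148,152,156,160,164,168,172,0,4,12,16,20,24,28,32,36,40,52,56,60,76,80,84,88,92,96,100,104,116,120,124,132,136,140,144,148,152,160,164,168,172,0,4,8,12,16,28,32,36,40,44,48,52,56,60,72,76]
 (apd [80,84,92,96,100,104,108,112,116,120,124,132,136,140,144,148,152,156,160,164,168,172,0,4,8,16,20,24,28,32,36,40,44,52,60,64,72,76,80,84,88,92,96,100,104,108,112,116,120,124,132,136,140,144,148,152,156,160,164,168]
 (apd [172,0,4,8,12,16,20,24,32,36,40,44,48,52,56,60,76,80,84,88,92,96,104,108,116,120,124,132,136,140,144,148,152,156,160,164,172,0,4,8,12,16,20,24,28,32,36,40,44,52,56,60,64,76,80,84,92,96,100,104]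
 (apd [108,112,116,120,124,132,136,140,144,148,152,160,164,168,172,0,4,8,12,16,20,24,28,32,36,40,44,48,52,56,60,64,72,76,80,84,88,92,96,100,104,108,116,120,124,132,136,140,144,148,152,156,160,164,168,172,0,4,8,12]
 (apd [16,20,24,28,32,36,40,44,48,52,56,60,64,72,76,80,84,88,92,96,100,104,108,112,116,120,124,132,136,140,144,148,152,156,160,164,168,172,0,4,8,12,16,20,24,28,32,36,40,44,48,52,56,60,64,72,76,80,84,88]
 (apd [92,96,100,104,108,112,116,120,124,132,136,140,144,148,152,156,160,164,168,172,0,4,8,12,16,20,24,28,32,36,40,44,48,52,56,60,64,72,76,80,84,88,92,96,100,104,108,112,116,120,124,132,136,140,144,148,152,156,160,164]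
 (apd [168,172,0,4,8,12,16,20,24,28,32,36,40,44,48,52,56,60,64,72,76,80,84,88,92,96,100,104,108,112,116,120,124,132,136,140,144,148,152,156,160,164,168,172,0,4,8,12,16,20,24,28,32,36,40,44,48,52,56,60]
 (apd [64,72,76,80,84,88,92,96,100,104,108,112,116,120,124,132,136,140,144,148,152,156,160,164,168,172,0,4,8,12,16,20,24,32,36,40,44,52,76,80,84,88,92,96,100,104,108,112,116,120,124,132,136,140,148,152,156,160,172,8]
 (apd [28,32,36,40,44,56,60,76,80,88,100,108,112,116,120,124,136,140,148,156,160,164,168,172,0,16,28,32,44,52,76,96,100,108,116,120,124,136,156,172,0,8,16,20,44,52,76,80,100,104,108,112,120,144,168,172,0,4,8,12]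
 (apd [32,72,80,96,104,132,136,140,144,168,172,12,28,76,132,136,144,172,32,76,124,144,152,168,172,0,8,20,76,80,84,172,4,8,32,72,172,28,68,8,16,20,24,28,32,36,40,44,48,52,56,60,64,76,80,84,88,92,100,104]
 (apd [108,112,116,120,124,136,140,144,148,152,156,160,164,168,172,0,4,8,12,16,20,24,28,32,36,40,44,48,52,56,60,64,72,76,80,84,88,92,96,100,104,108,112,116,120,124,132,136,140,144,148,152,156,160,164,168,172,0,4,8]
 (apd [12,16,20,24,28,32,36,40,44,48,52,56,60,64,72,76,80,84,96,100,104,108,112,116,120,124,132,136,140,144,148,152,156,160,164,168,172,4,8,16,20,24,28,32,36,40,44,52,56,60,64,72,76,80,84,88,92,96,100,104]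
 [116,120,124,136,140,144,148,152,160,164,168,172,8,24,72,144,172,68,4,8,12,16,20,24,32,36,40,44,48,52,60,64,76,80,104,116,124,136,148,152,156,160,164,172,20,24,36,84,136,140])))))))))))))
  T0_K0) = true := by decide +kernel

theorem T0_idx : Idx.{u} iv (T0_R ++ []) ([1,2,3,4,5,6,7,8].map fun x => [x]) [1,2,3,4,5,6,7,8,9] 4600 :=
  Reach.idx T0_n_ok (reach_runH T0_n_ok (tbk_eq tr13 (by norm_num) (by norm_num) (by norm_num) T0_n_ok) T0_n_rel T0_K0_reach _ _) T0_fin (by norm_num)

end Cfsg.Lib.Comp.Co2y
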