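import Cfsg.Agent.Lib.Comp.Co2y.Base

set_option maxRecDepth 100000
set_option Elab.async false

namespace Cfsg.Lib.Comp.Co2y

universe u

noncomputable def T4_R : List (List ℕ × ℕ) := [([3],1),
 ([4],1),
 ([1],2),
 ([3,4],1),
 ([1,3],2),
 ([1,4],2),
 ([1,4,2,3],1),
 ([5],1),
 ([1,5],1),
 ([4,5],2),
 ([3,5],4),
 ([1,5,4,3],2),
 ([1,2],0)]

noncomputable def T4_n_1 : Net :=
 (Net.cons 10 (nat_lit 0x36)
 (Net.cons 5 (nat_lit 0x8)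
 (Net.cons 1 (nat_lit 0x14a0)
 (Net.cons 1 (nat_lit 0x52942)
 (Net.cons 1 (nat_lit 0x29080)
 (Net.cons 1 (nat_lit 0x10940)
 (Net.cons 1 (nat_lit 0x420)
 (Net.cons 5 (nat_lit 0x1412)
 (Net.cons 10 (nat_lit 0x36)
 Net.nil)))))))))

noncomputable def T4_n_3 : Net :=
 (Net.cons 10 (nat_lit 0x348)
 (Net.cons 5 (nat_lit 0x18)
 (Net.cons 1 (nat_lit 0x14a0)
 (Net.cons 1 (nat_lit 0x50942)
 (Net.cons 1 (nat_lit 0x21080)
 (Net.cons 1 (nat_lit 0x12140)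
 (Net.cons 1 (nat_lit 0x8020)
 (Net.cons 5 (nat_lit 0x7c18)
 (Net.cons 10 (nat_lit 0x348)
 Net.nil)))))))))

noncomputable def T4_n_4 : Net :=
 (Net.cons 10 (nat_lit 0x64)
 (Net.cons 5 (nat_lit 0xe)
 (Net.cons 1 (nat_lit 0x4)
 (Net.cons 1 (nat_lit 0x12840)
 (Net.cons 1 (nat_lit 0xa0)
 (Net.cons 1 (nat_lit 0x40)
 (Net.cons 5 (nat_lit 0x1c1e)
 (Net.cons 10 (nat_lit 0x64)
 Net.nil))))))))

noncomputable def T4_n_5 : Net :=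
 (Net.cons 10 (nat_lit 0x40)
 (Net.cons 5 (nat_lit 0x300c)
 (Net.cons 1 (nat_lit 0x8405)
 (Net.cons 1 (nat_lit 0x52940)
 (Net.cons 1 (nat_lit 0x204a0)
 (Net.cons 1 (nat_lit 0x50140)
 (Net.cons 1 (nat_lit 0x8000)
 (Net.cons 5 (nat_lit 0x380c)
 (Net.cons 10 (nat_lit 0x40)
 Net.nil)))))))))

noncomputable def T4_n : List Net := [Net.nil,
 T4_n_1,
 Net.rev T4_n_1,
 T4_n_3,
 T4_n_4,
 T4_n_5]

theorem T4_n_ok : NetsOK 20 T4_n := netsOK_of (by decide +kernel)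

theorem T4_n_rel : Rels (gp T4_n) T4_R := rels_of_relsB (k := 5) T4_n_ok (by norm_num) (by decide +kernel)

theorem T4_fin : finB 20 T4_n [1,2,3,4,5] 20 (runH 20 T4_n (fun x p => ptInv (nth Net.nil T4_n x) p) iv T4_R [] ([1,2,3,4].map fun x => [x]) 0 []
  [1,5,9,13,0,4,12,28,32,36,40,44,48,8,16,20,32,48,4,12,24,28,36,44,0,12,36,40,32,36,48,8,20,24,32,48,16,20,32]
  (defsH 20 T4_n (ones 200) [5,3,4,5,1,2,3,4,5] (Nat.shiftLeft 1 0) 0)) = true := by decide +kernel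

theorem T4_idx : Idx.{u} iv (T4_R ++ []) ([1,2,3,4].map fun x => [x]) [1,2,3,4,5] 20 :=
  Reach.idx T4_n_ok (reach_runH T4_n_ok (fun x p _ => ptInv_gp T4_n_ok x p) T4_n_rel (reach_defsH T4_n_ok _ _ _ _ _ _) _ _) T4_fin (by norm_num)

end Cfsg.Lib.Comp.Co2y
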